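import Mathlib

/-!
Integral closures inside equalizers commute with smooth base change.
-/

universe u

open TensorProduct Algebra.TensorProduct

namespace Groth.Agent.RelNorm

variable {R B A D C : Type u} [CommRing R] [CommRing B] [CommRing A] [CommRing D] [CommRing C]
  [Algebra R B] [Algebra R A] [Algebra R D] [Algebra R C]

/-- The range of `C → A` is the integral closure of `R` in the equalizer of `q₁, q₂ : A → D`;
the same holds after a smooth base change. -/
theorem equalizer_closure_tensor [Algebra.Smooth R B] (q₁ q₂ : A →ₐ[R] D) (ι : C →ₐ[R] A)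
    (hι : Function.Injective ι)
    (hC : ∀ x, x ∈ Set.range ι ↔ IsIntegral R x ∧ q₁ x = q₂ x) :
    Function.Injective (Algebra.TensorProduct.map (AlgHom.id B B) ι) ∧
      ∀ x : B ⊗[R] A, x ∈ Set.range (Algebra.TensorProduct.map (AlgHom.id B B) ι) ↔
        IsIntegral B x ∧ Algebra.TensorProduct.map (AlgHom.id B B) q₁ x =
          Algebra.TensorProduct.map (AlgHom.id B B) q₂ x := by
  refine ⟨Module.Flat.lTensor_preserves_injective_linearMap (M := B) ι.toLinearMap hι, fun x => ?_⟩
  let E := AlgHom.equalizer q₁ q₂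
  constructor
  · rintro ⟨c, rfl⟩
    induction c using TensorProduct.induction_on with
    | zero => simp [isIntegral_zero]
    | add a b ha hb => rw [map_add, map_add, map_add]; exact ⟨ha.1.add hb.1, by rw [ha.2, hb.2]⟩
    | tmul b c =>
      obtain ⟨h₁, h₂⟩ := (hC (ι c)).1 ⟨c, rfl⟩
      refine ⟨?_, by simp [h₂]⟩
      rw [Algebra.TensorProduct.map_tmul]
      have h := ((h₁.map (includeRight (R := R) (A := B))).tower_top (A := B)).smul b
      simpa [TensorProduct.smul_tmul'] using h
  · rintro ⟨hx₁, hx₂⟩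
    obtain ⟨y, hy⟩ := (AlgHom.tensorEqualizerEquiv B B q₁ q₂).surjective ⟨x, hx₂⟩
    have hy' : Algebra.TensorProduct.map (AlgHom.id B B) E.val y = x := by
      have := congrArg Subtype.val hy
      rwa [AlgHom.tensorEqualizerEquiv_apply, AlgHom.coe_tensorEqualizer] at this
    have hinj : Function.Injective (Algebra.TensorProduct.map (AlgHom.id B B) E.val) :=
      Module.Flat.lTensor_preserves_injective_linearMap (M := B) E.val.toLinearMap Subtype.val_injective
    have hyi : IsIntegral B y := (isIntegral_algHom_iff _ hinj).1 (hy' ▸ hx₁)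
    obtain ⟨z, hz⟩ := (TensorProduct.toIntegralClosure_bijective_of_smooth (R := R) (S := B) (B := E)).2
      ⟨y, hyi⟩
    have key : ∀ e : integralClosure R E, (e : E).1 ∈ Set.range ι := fun e =>
      (hC _).2 ⟨e.2.map E.val, (e : E).2⟩
    choose k hk using key
    let kA : integralClosure R E →ₐ[R] C :=
      { toFun := k
        map_one' := hι (by rw [hk, map_one]; rfl)
        map_mul' := fun a b => hι (by rw [hk, map_mul, hk, hk]; rfl)
        map_zero' := hι (by rw [hk, map_zero]; rfl)
        map_add' := fun a b => hι (by rw [hk, map_add, hk, hk]; rfl)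
        commutes' := fun r => hι (by rw [hk, AlgHom.commutes]; rfl) }
    refine ⟨Algebra.TensorProduct.map (AlgHom.id B B) kA z, ?_⟩
    have hz' : ((TensorProduct.toIntegralClosure R B E z : integralClosure B (B ⊗[R] E)) : B ⊗[R] E) = y :=
      congrArg Subtype.val hz
    rw [← hy', ← hz']
    clear hz hz'
    induction z using TensorProduct.induction_on with
    | zero => simp
    | add a b ha hb => simp only [map_add, Subalgebra.coe_add, ha, hb]
    | tmul b c =>
      rw [Algebra.TensorProduct.map_tmul, Algebra.TensorProduct.map_tmul]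
      exact congrArg (b ⊗ₜ[R] ·) (hk c)

variable {A' D' C' : Type u} [CommRing A'] [CommRing D'] [CommRing C']
  [Algebra R A'] [Algebra R D'] [Algebra R C'] [Algebra B A'] [Algebra B D'] [Algebra B C']
  [Algebra A A'] [Algebra D D'] [Algebra C C']
  [IsScalarTower R B A'] [IsScalarTower R B D'] [IsScalarTower R B C']
  [IsScalarTower R A A'] [IsScalarTower R D D'] [IsScalarTower R C C']

theorem algHom_comp_equiv [Algebra.IsPushout R B A A'] [Algebra.IsPushout R B D D'] (q : A →ₐ[R] D)
    (q' : A' →ₐ[B] D') (h : ∀ a, q' (algebraMap A A' a) = algebraMap D D' (q a)) (x : B ⊗[R] A) :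
    q' (Algebra.IsPushout.equiv R B A A' x) =
      Algebra.IsPushout.equiv R B D D' (Algebra.TensorProduct.map (AlgHom.id B B) q x) := by
  induction x using TensorProduct.induction_on with
  | zero => simp
  | add a b ha hb => simp only [map_add, ha, hb]
  | tmul b a => simp [Algebra.IsPushout.equiv_tmul, h, Algebra.smul_def, AlgHom.commutes]

/-- Smooth base change of an integral closure inside an equalizer, in terms of pushout squares. -/
theorem equalizer_closure_pushout [Algebra.Smooth R B] [Algebra.IsPushout R B A A']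
    [Algebra.IsPushout R B D D'] [Algebra.IsPushout R B C C'] (q₁ q₂ : A →ₐ[R] D) (ι : C →ₐ[R] A)
    (q₁' q₂' : A' →ₐ[B] D') (ι' : C' →ₐ[B] A')
    (h₁ : ∀ a, q₁' (algebraMap A A' a) = algebraMap D D' (q₁ a))
    (h₂ : ∀ a, q₂' (algebraMap A A' a) = algebraMap D D' (q₂ a))
    (h₃ : ∀ c, ι' (algebraMap C C' c) = algebraMap A A' (ι c))
    (hι : Function.Injective ι) (hC : ∀ x, x ∈ Set.range ι ↔ IsIntegral R x ∧ q₁ x = q₂ x) :
    Function.Injective ι' ∧ ∀ x, x ∈ Set.range ι' ↔ IsIntegral B x ∧ q₁' x = q₂' x := by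
  obtain ⟨hinj, hrange⟩ := equalizer_closure_tensor (B := B) q₁ q₂ ι hι hC
  let eA := Algebra.IsPushout.equiv R B A A'
  let eC := Algebra.IsPushout.equiv R B C C'
  let eD := Algebra.IsPushout.equiv R B D D'
  refine ⟨fun a b hab => ?_, fun x => ?_⟩
  · obtain ⟨a, rfl⟩ := eC.surjective a
    obtain ⟨b, rfl⟩ := eC.surjective b
    rw [algHom_comp_equiv ι ι' h₃, algHom_comp_equiv ι ι' h₃] at hab
    rw [hinj (eA.injective hab)]
  · obtain ⟨x, rfl⟩ := eA.surjective x
    rw [algHom_comp_equiv q₁ q₁' h₁, algHom_comp_equiv q₂ q₂' h₂, eD.injective.eq_iff,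
      show IsIntegral B (eA x) ↔ IsIntegral B x from isIntegral_algEquiv eA, ← hrange x]
    constructor
    · rintro ⟨c, hc⟩
      obtain ⟨c, rfl⟩ := eC.surjective c
      rw [algHom_comp_equiv ι ι' h₃] at hc
      exact ⟨c, eA.injective hc⟩
    · rintro ⟨c, rfl⟩
      exact ⟨eC c, algHom_comp_equiv ι ι' h₃ c⟩

end Groth.Agent.RelNorm
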