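import Mathlib
import Groth.Agent.RelNorm.Alg

/-!
The affine scheme form: the spectrum of the integral closure inside an equalizer.
-/

set_option backward.isDefEq.respectTransparency false

universe u

open CategoryTheory CategoryTheory.Limits AlgebraicGeometry

namespace Groth.Agent.RelNorm

variable {T A R N : Scheme.{u}}

/-- `l : A ⟶ N ⟶ T` exhibits `N` as the spectrum of the integral closure of `Γ(T)` in the equalizer of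
the two maps `Γ(A) ⇉ Γ(R)`. -/
structure IsClosureEq (q₁ q₂ : R ⟶ A) (a : A ⟶ T) (ν : N ⟶ T) (l : A ⟶ N) : Prop where
  fac : l ≫ ν = a
  affine : IsAffine N
  integral : IsIntegralHom ν
  inj : Function.Injective l.appTop
  range : ∀ x, x ∈ Set.range l.appTop ↔ a.appTop.hom.IsIntegralElem x ∧ q₁.appTop x = q₂.appTop x

theorem exists_isClosureEq [IsAffine T] [IsAffine A] (q₁ q₂ : R ⟶ A) (a : A ⟶ T) (hq : q₁ ≫ a = q₂ ≫ a) :
    ∃ (N : Scheme.{u}) (ν : N ⟶ T) (l : A ⟶ N), IsClosureEq q₁ q₂ a ν l := by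
  let K := RingHom.eqLocus q₁.appTop.hom q₂.appTop.hom
  letI : Algebra Γ(T, ⊤) Γ(A, ⊤) := a.appTop.hom.toAlgebra
  have hK : ∀ r, algebraMap Γ(T, ⊤) Γ(A, ⊤) r ∈ K := fun r => by
    change q₁.appTop (a.appTop r) = q₂.appTop (a.appTop r)
    rw [← ConcreteCategory.comp_apply, ← ConcreteCategory.comp_apply, ← Scheme.Hom.comp_appTop,
      ← Scheme.Hom.comp_appTop, hq]
  let C : Subalgebra Γ(T, ⊤) Γ(A, ⊤) :=
    integralClosure Γ(T, ⊤) Γ(A, ⊤) ⊓ { K with algebraMap_mem' := hK }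
  let ι : CommRingCat.of C ⟶ Γ(A, ⊤) := CommRingCat.ofHom C.val.toRingHom
  let φ : Γ(T, ⊤) ⟶ CommRingCat.of C := CommRingCat.ofHom (algebraMap Γ(T, ⊤) C)
  have hφι : φ ≫ ι = a.appTop := by ext r; rfl
  have hint : φ.hom.IsIntegral := fun x =>
    (isIntegral_algHom_iff C.val Subtype.val_injective).1 x.2.1
  have happ : (A.toSpecΓ ≫ Spec.map ι).appTop = (Scheme.ΓSpecIso (CommRingCat.of C)).hom ≫ ι := by
    rw [Scheme.Hom.comp_appTop, Scheme.toSpecΓ_appTop, Scheme.ΓSpecIso_naturality]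
  refine ⟨Spec (CommRingCat.of C), Spec.map φ ≫ T.isoSpec.inv, A.toSpecΓ ≫ Spec.map ι,
    ⟨?_, inferInstance, ?_, ?_, fun x => ?_⟩⟩
  · rw [Category.assoc, ← Spec.map_comp_assoc, hφι, ← Scheme.toSpecΓ_naturality_assoc]
    simp [Scheme.isoSpec]
  · haveI : IsIntegralHom (Spec.map φ) := IsIntegralHom.SpecMap_iff.2 hint
    infer_instance
  · rw [happ]
    exact (Subtype.val_injective (p := (· ∈ C))).comp
      (Scheme.ΓSpecIso (CommRingCat.of C)).commRingCatIsoToRingEquiv.injective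
  · rw [happ]
    constructor
    · rintro ⟨y, rfl⟩
      exact ((Scheme.ΓSpecIso (CommRingCat.of C)).hom y).2
    · intro hx
      refine ⟨(Scheme.ΓSpecIso (CommRingCat.of C)).inv ⟨x, hx⟩, ?_⟩
      simp [ι]

theorem IsClosureEq.baseChange {q₁ q₂ : R ⟶ A} {a : A ⟶ T} {ν : N ⟶ T} {l : A ⟶ N}
    [IsAffine T] [IsAffine A] [IsAffine R]
    (h : IsClosureEq q₁ q₂ a ν l) (hq : q₁ ≫ a = q₂ ≫ a)
    {T' A' R' N' : Scheme.{u}} [IsAffine T'] (j : T' ⟶ T) [Smooth j]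
    {gA : A' ⟶ A} {a' : A' ⟶ T'} (sqA : IsPullback gA a' a j)
    {gR : R' ⟶ R} {r' : R' ⟶ T'} (sqR : IsPullback gR r' (q₁ ≫ a) j)
    {gN : N' ⟶ N} {ν' : N' ⟶ T'} (sqN : IsPullback gN ν' ν j)
    (q₁' q₂' : R' ⟶ A') (l' : A' ⟶ N') (h₁ : q₁' ≫ gA = gR ≫ q₁) (h₁' : q₁' ≫ a' = r')
    (h₂ : q₂' ≫ gA = gR ≫ q₂) (h₂' : q₂' ≫ a' = r') (hl : l' ≫ gN = gA ≫ l) (hl' : l' ≫ ν' = a') :
    IsClosureEq q₁' q₂' a' ν' l' := by
  haveI := h.affine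
  haveI := h.integral
  haveI : IsIntegralHom ν' := MorphismProperty.of_isPullback sqN ‹_›
  suffices hk : Function.Injective l'.appTop ∧ ∀ x, x ∈ Set.range l'.appTop ↔
      a'.appTop.hom.IsIntegralElem x ∧ q₁'.appTop x = q₂'.appTop x from
    ⟨hl', isAffine_of_isAffineHom ν', inferInstance, hk.1, hk.2⟩
  have hsm : j.appTop.hom.Smooth := (HasRingHomProperty.iff_of_isAffine (P := @Smooth)).1 ‹_›
  have e : ∀ {X Y Z : Scheme.{u}} (f : X ⟶ Y) (g : Y ⟶ Z) (x), f.appTop (g.appTop x) = (f ≫ g).appTop x :=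
    fun f g x => by rw [Scheme.Hom.comp_appTop]; rfl
  letI : Algebra Γ(T, ⊤) Γ(T', ⊤) := j.appTop.hom.toAlgebra
  letI : Algebra Γ(T, ⊤) Γ(A, ⊤) := a.appTop.hom.toAlgebra
  letI : Algebra Γ(T, ⊤) Γ(R, ⊤) := (q₁ ≫ a).appTop.hom.toAlgebra
  letI : Algebra Γ(T, ⊤) Γ(N, ⊤) := ν.appTop.hom.toAlgebra
  letI : Algebra Γ(T', ⊤) Γ(A', ⊤) := a'.appTop.hom.toAlgebra
  letI : Algebra Γ(T', ⊤) Γ(R', ⊤) := r'.appTop.hom.toAlgebra
  letI : Algebra Γ(T', ⊤) Γ(N', ⊤) := ν'.appTop.hom.toAlgebra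
  letI : Algebra Γ(A, ⊤) Γ(A', ⊤) := gA.appTop.hom.toAlgebra
  letI : Algebra Γ(R, ⊤) Γ(R', ⊤) := gR.appTop.hom.toAlgebra
  letI : Algebra Γ(N, ⊤) Γ(N', ⊤) := gN.appTop.hom.toAlgebra
  letI : Algebra Γ(T, ⊤) Γ(A', ⊤) := (gA ≫ a).appTop.hom.toAlgebra
  letI : Algebra Γ(T, ⊤) Γ(R', ⊤) := (gR ≫ q₁ ≫ a).appTop.hom.toAlgebra
  letI : Algebra Γ(T, ⊤) Γ(N', ⊤) := (gN ≫ ν).appTop.hom.toAlgebra
  haveI : IsScalarTower Γ(T, ⊤) Γ(T', ⊤) Γ(A', ⊤) := .of_algebraMap_eq fun x => by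
    change (gA ≫ a).appTop x = a'.appTop (j.appTop x)
    rw [e, sqA.w]
  haveI : IsScalarTower Γ(T, ⊤) Γ(T', ⊤) Γ(R', ⊤) := .of_algebraMap_eq fun x => by
    change (gR ≫ q₁ ≫ a).appTop x = r'.appTop (j.appTop x)
    rw [e, sqR.w]
  haveI : IsScalarTower Γ(T, ⊤) Γ(T', ⊤) Γ(N', ⊤) := .of_algebraMap_eq fun x => by
    change (gN ≫ ν).appTop x = ν'.appTop (j.appTop x)
    rw [e, sqN.w]
  haveI : IsScalarTower Γ(T, ⊤) Γ(A, ⊤) Γ(A', ⊤) := .of_algebraMap_eq fun x => (e gA a x).symm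
  haveI : IsScalarTower Γ(T, ⊤) Γ(R, ⊤) Γ(R', ⊤) := .of_algebraMap_eq fun x => (e gR (q₁ ≫ a) x).symm
  haveI : IsScalarTower Γ(T, ⊤) Γ(N, ⊤) Γ(N', ⊤) := .of_algebraMap_eq fun x => (e gN ν x).symm
  haveI : Algebra.Smooth Γ(T, ⊤) Γ(T', ⊤) := hsm
  haveI : Algebra.IsPushout Γ(T, ⊤) Γ(T', ⊤) Γ(A, ⊤) Γ(A', ⊤) :=
    CommRingCat.isPushout_iff_isPushout.1 (isPushout_appTop_of_isPullback sqA).flip
  haveI : Algebra.IsPushout Γ(T, ⊤) Γ(T', ⊤) Γ(R, ⊤) Γ(R', ⊤) :=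
    CommRingCat.isPushout_iff_isPushout.1 (isPushout_appTop_of_isPullback sqR).flip
  haveI : Algebra.IsPushout Γ(T, ⊤) Γ(T', ⊤) Γ(N, ⊤) Γ(N', ⊤) :=
    CommRingCat.isPushout_iff_isPushout.1 (isPushout_appTop_of_isPullback sqN).flip
  let Q₁ : Γ(A, ⊤) →ₐ[Γ(T, ⊤)] Γ(R, ⊤) := { q₁.appTop.hom with commutes' := fun x => e q₁ a x }
  let Q₂ : Γ(A, ⊤) →ₐ[Γ(T, ⊤)] Γ(R, ⊤) :=
    { q₂.appTop.hom with commutes' := fun x => (e q₂ a x).trans (by rw [← hq]; rfl) }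
  let L : Γ(N, ⊤) →ₐ[Γ(T, ⊤)] Γ(A, ⊤) :=
    { l.appTop.hom with commutes' := fun x => (e l ν x).trans (by rw [h.fac]; rfl) }
  let Q₁' : Γ(A', ⊤) →ₐ[Γ(T', ⊤)] Γ(R', ⊤) :=
    { q₁'.appTop.hom with commutes' := fun x => (e q₁' a' x).trans (by rw [h₁']; rfl) }
  let Q₂' : Γ(A', ⊤) →ₐ[Γ(T', ⊤)] Γ(R', ⊤) :=
    { q₂'.appTop.hom with commutes' := fun x => (e q₂' a' x).trans (by rw [h₂']; rfl) }
  let L' : Γ(N', ⊤) →ₐ[Γ(T', ⊤)] Γ(A', ⊤) :=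
    { l'.appTop.hom with commutes' := fun x => (e l' ν' x).trans (by rw [hl']; rfl) }
  obtain ⟨hinj, hrange⟩ := equalizer_closure_pushout Q₁ Q₂ L Q₁' Q₂' L'
    (fun x => by
      change q₁'.appTop (gA.appTop x) = gR.appTop (q₁.appTop x)
      rw [e, e, h₁])
    (fun x => by
      change q₂'.appTop (gA.appTop x) = gR.appTop (q₂.appTop x)
      rw [e, e, h₂])
    (fun x => by
      change l'.appTop (gN.appTop x) = gA.appTop (l.appTop x)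
      rw [e, e, hl])
    h.inj h.range
  exact ⟨hinj, hrange⟩

end Groth.Agent.RelNorm
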