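import Groth.Prelude.Def_AlgSpMor5
import Groth.Agent.ASp.AffMor
import Groth.Agent.ASp.Affine
import Groth.Agent.ASp.Morph
import Groth.Agent.ASp.ClosedIdeal
import Groth.Agent.RelNorm.Sch

/-!
The normalization of an affine scheme in a quasi-compact quasi-separated algebraic space over it.
-/

set_option backward.isDefEq.respectTransparency false
set_option backward.isDefEq.respectTransparency.types false

universe u

open CategoryTheory CategoryTheory.Limits AlgebraicGeometry Opposite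

namespace Groth.Agent.RelNorm

open _root_.AlgSp Groth.Agent.ASp

variable {S : Scheme.{u}}

/-- An affine presentation of `W` over an affine scheme: an affine chart and an affine cover of its
relation. -/
structure Pres {W : Sp S} {T : Over S} (f : W ⟶ (yon S).obj T) where
  A : Over S
  K : Over S
  R : Over S
  a : (yon S).obj A ⟶ W
  af : A ⟶ T
  p₁ : K ⟶ A
  p₂ : K ⟶ A
  c : R ⟶ K
  hA : IsAffine A.left
  hR : IsAffine R.left
  ha : RepWith @Etale a
  has : RepWith @Surjective a
  haf : a ≫ f = (yon S).map af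
  hK : IsPullback ((yon S).map p₁) ((yon S).map p₂) a a
  hc : Etale c.left
  hcs : Surjective c.left

variable {W : Sp S} {T : Over S} {f : W ⟶ (yon S).obj T}

theorem Pres.fac_left (P : Pres f) : (P.c ≫ P.p₁).left ≫ P.af.left = (P.c ≫ P.p₂).left ≫ P.af.left := by
  rw [← Over.comp_left, ← Over.comp_left]
  refine congrArg CommaMorphism.left ((yon S).map_injective ?_)
  simp only [Functor.map_comp, Category.assoc, ← P.haf, P.hK.w_assoc]

theorem exists_pres (hT : IsAffine T.left) (hW : IsAlgSpace W) (hqc : IsQuasiCompactMor f)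
    (hqs : IsQuasiSeparatedMor f) : Nonempty (Pres f) := by
  haveI : IsAffine T.left := hT
  haveI := compactSpace_of_isQuasiCompactSp (hqc (IsAlgSpace.yon_obj T) isQuasiCompactSp_yon (𝟙 _) (𝟙 W) f
    (IsPullback.of_horiz_isIso ⟨by simp⟩))
  obtain ⟨A, a, hA, ha, has⟩ := exists_affine_chart hW
  haveI := hA
  obtain ⟨K, p₁, p₂, hK⟩ := exists_isPullback_yon ha.1 a
  obtain ⟨af, haf⟩ := (yon S).map_surjective (a ≫ f)
  -- the relation is quasi-compact
  obtain ⟨M, m₁, m₂, hM⟩ := exists_isPullback_yon ((IsAlgSpace.yon_obj T).representable_from_yon (a ≫ f)) (a ≫ f)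
  have hMaff : IsAffine M.left := by
    have hM' : IsPullback m₁.left m₂.left af.left af.left :=
      isPullback_left (isPullback_of_yon_map (by rw [haf]; exact hM))
    exact IsAffine.of_isPullback hM'
  haveI := hMaff
  have sqd := pullback_map_diagonal_isPullback a a f
  obtain ⟨k, hk⟩ := (yon S).map_surjective
    (hK.isoPullback.hom ≫ pullback.map a a (a ≫ f) (a ≫ f) _ _ f (Category.id_comp _).symm (Category.id_comp _).symm ≫
      hM.isoPullback.inv)
  have hkqc : QuasiCompact k.left := by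
    have h1 := repWith_of_isPullback sqd hqs
    have h2 : RepWith @QuasiCompact ((yon S).map k) := by
      rw [hk]
      exact (RepWith (S := S) @QuasiCompact).cancel_left_of_respectsIso _ _ |>.2
        ((RepWith (S := S) @QuasiCompact).cancel_right_of_respectsIso _ _ |>.2 h1)
    exact (repWith_yon_map_iff _ k).1 h2
  haveI : CompactSpace ↥K.left := QuasiCompact.compactSpace_of_compactSpace k.left
  let 𝒰 := K.left.affineCover.finiteSubcover
  let σ : (∐ fun i => 𝒰.X i) ⟶ K.left := Limits.Sigma.desc 𝒰.f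
  haveI hσe : Etale σ := IsZariskiLocalAtSource.sigmaDesc (P := @Etale) fun i => inferInstance
  haveI hσs : Surjective σ := ⟨fun x => by
    obtain ⟨i, y, hy⟩ := 𝒰.exists_eq x
    exact ⟨Limits.Sigma.ι (fun i => 𝒰.X i) i y, by rw [← Scheme.Hom.comp_apply, Sigma.ι_desc]; exact hy⟩⟩
  haveI : ∀ i, IsAffine (𝒰.X i) := fun i => inferInstanceAs (IsAffine (K.left.affineCover.X _))
  exact ⟨{ A := A, K := K, R := Over.mk (σ ≫ K.hom), a := a, af := af, p₁ := p₁, p₂ := p₂
           c := Over.homMk σ rfl, hA := hA, hR := inferInstanceAs (IsAffine (∐ fun i => 𝒰.X i))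
           ha := ha, has := has, haf := haf.symm, hK := hK, hc := hσe, hcs := hσs }⟩

theorem Pres.exists_desc (P : Pres f) {Z : Sp S} (g : (yon S).obj P.A ⟶ Z)
    (hg : (yon S).map (P.c ≫ P.p₁) ≫ g = (yon S).map (P.c ≫ P.p₂) ≫ g) : ∃ g' : W ⟶ Z, P.a ≫ g' = g := by
  haveI : Epi P.a := epi_of_etale_surjective P.ha P.has
  haveI : Epi ((yon S).map P.c) := epi_of_etale_surjective (repWith_yon_map P.hc) (repWith_yon_map P.hcs)
  refine exists_desc_of_epi P.a P.hK g ((cancel_epi ((yon S).map P.c)).1 ?_)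
  rwa [← Functor.map_comp_assoc, ← Functor.map_comp_assoc]

/-- `N` is the spectrum of the integral closure of `Γ(T)` in the global functions of `W`. -/
def AffNorm {W : Sp S} {T N : Over S} (f : W ⟶ (yon S).obj T) (ν : N ⟶ T) (f' : W ⟶ (yon S).obj N) : Prop :=
  ∃ (P : Pres f) (l : P.A ⟶ N), P.a ≫ f' = (yon S).map l ∧
    IsClosureEq (P.c ≫ P.p₁).left (P.c ≫ P.p₂).left P.af.left ν.left l.left

theorem exists_affNorm (hT : IsAffine T.left) (hW : IsAlgSpace W) (hqc : IsQuasiCompactMor f)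
    (hqs : IsQuasiSeparatedMor f) :
    ∃ (N : Over S) (ν : N ⟶ T) (f' : W ⟶ (yon S).obj N), f' ≫ (yon S).map ν = f ∧ AffNorm f ν f' := by
  haveI := hT
  obtain ⟨P⟩ := exists_pres hT hW hqc hqs
  haveI := P.hA
  obtain ⟨N, ν, l, h⟩ := exists_isClosureEq (P.c ≫ P.p₁).left (P.c ≫ P.p₂).left P.af.left P.fac_left
  let N' : Over S := Over.mk (ν ≫ T.hom)
  let ν' : N' ⟶ T := Over.homMk ν rfl
  let l' : P.A ⟶ N' := Over.homMk l (by
    change l ≫ ν ≫ T.hom = P.A.hom
    rw [← Category.assoc, h.fac, Over.w])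
  haveI : IsAffine N'.left := h.affine
  have hq : (P.c ≫ P.p₁) ≫ l' = (P.c ≫ P.p₂) ≫ l' := by
    apply Over.OverMorphism.ext
    haveI : IsAffine N := h.affine
    refine ext_of_isAffine ?_
    ext x
    change ((P.c ≫ P.p₁).left ≫ l).appTop x = ((P.c ≫ P.p₂).left ≫ l).appTop x
    rw [Scheme.Hom.comp_appTop, Scheme.Hom.comp_appTop, ConcreteCategory.comp_apply, ConcreteCategory.comp_apply]
    exact ((h.range _).1 ⟨x, rfl⟩).2
  obtain ⟨f', hf'⟩ := P.exists_desc ((yon S).map l') (by simp only [← Functor.map_comp, hq])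
  haveI : Epi P.a := epi_of_etale_surjective P.ha P.has
  refine ⟨N', ν', f', ?_, P, l', hf', h⟩
  rw [← cancel_epi P.a, reassoc_of% hf', P.haf, ← Functor.map_comp]
  exact congrArg _ (Over.OverMorphism.ext h.fac)

theorem AffNorm.affine {N : Over S} {ν : N ⟶ T} {f' : W ⟶ (yon S).obj N} (h : AffNorm f ν f') :
    IsAffine N.left := by
  obtain ⟨P, l, -, hc⟩ := h
  exact hc.affine

theorem AffNorm.isRelNormalization {N : Over S} {ν : N ⟶ T} {f' : W ⟶ (yon S).obj N}
    (hT : IsAffine T.left) (hfac : f' ≫ (yon S).map ν = f) (h : AffNorm f ν f') :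
    IsRelNormalization f ((yon S).map ν) f' := by
  haveI := hT
  obtain ⟨P, l, hl, hc⟩ := h
  haveI := P.hA
  haveI := hc.affine
  refine ⟨hfac, (isIntegralMor_iff (IsAlgSpace.yon_obj N) (IsAlgSpace.yon_obj T)).2 (repWith_yon_map hc.integral),
    fun Z hZ π g hπ hg => ?_⟩
  -- `Z` is an affine scheme over `T`
  obtain ⟨Z₀, i, fst, hsq, hZa, hi⟩ := hπ (Z := T) hT (𝟙 _)
  haveI : IsIso fst := hsq.isIso_fst_of_isIso
  have hfst : fst ≫ π = (yon S).map i := by rw [hsq.w, Category.comp_id]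
  haveI : IsAffine Z₀.left := hZa
  obtain ⟨γ, hγ⟩ := (yon S).map_surjective (P.a ≫ g ≫ inv fst)
  have hγi : γ ≫ i = P.af := by
    apply (yon S).map_injective
    rw [Functor.map_comp, hγ, ← hfst, Category.assoc, Category.assoc, IsIso.inv_hom_id_assoc, hg, P.haf]
  have hγq : (P.c ≫ P.p₁) ≫ γ = (P.c ≫ P.p₂) ≫ γ := by
    apply (yon S).map_injective
    simp only [Functor.map_comp, Category.assoc, hγ, P.hK.w_assoc]
  -- the ring map lands in the closure
  have hmem : ∀ z, γ.left.appTop z ∈ Set.range l.left.appTop := by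
    intro z
    refine (hc.range _).2 ⟨?_, ?_⟩
    · obtain ⟨p, hp1, hp2⟩ := (HasAffineProperty.iff_of_isAffine.1 hi).2 z
      refine ⟨p, hp1, ?_⟩
      have e : P.af.left.appTop = i.left.appTop ≫ γ.left.appTop := by
        rw [← Scheme.Hom.comp_appTop, ← Over.comp_left, hγi]
      have h2 : Polynomial.eval₂ (γ.left.appTop.hom.comp i.left.appTop.hom) (γ.left.appTop z) p =
          γ.left.appTop (Polynomial.eval₂ i.left.appTop.hom z p) :=
        (Polynomial.hom_eval₂ p i.left.appTop.hom γ.left.appTop.hom z).symm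
      rw [e]
      exact h2.trans (by rw [hp2, map_zero])
    · rw [← ConcreteCategory.comp_apply, ← ConcreteCategory.comp_apply, ← Scheme.Hom.comp_appTop,
        ← Scheme.Hom.comp_appTop, ← Over.comp_left, ← Over.comp_left, hγq]
  choose φ hφ using hmem
  let φ' : Γ(Z₀.left, ⊤) ⟶ Γ(N.left, ⊤) := CommRingCat.ofHom
    { toFun := φ
      map_one' := hc.inj (by rw [hφ, map_one, map_one])
      map_mul' := fun a b => hc.inj (by rw [hφ, map_mul, map_mul, hφ, hφ])
      map_zero' := hc.inj (by rw [hφ, map_zero, map_zero])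
      map_add' := fun a b => hc.inj (by rw [hφ, map_add, map_add, hφ, hφ]) }
  let θ : N.left ⟶ Z₀.left := N.left.toSpecΓ ≫ Spec.map φ' ≫ Z₀.left.isoSpec.inv
  have hθ : θ.appTop = φ' := by
    simp [θ, Scheme.toSpecΓ_appTop, Scheme.isoSpec, Scheme.ΓSpecIso_naturality]
  have hθi : θ ≫ i.left = ν.left := by
    refine ext_of_isAffine ?_
    ext x
    apply hc.inj
    rw [Scheme.Hom.comp_appTop, hθ]
    change l.left.appTop (φ (i.left.appTop x)) = l.left.appTop (ν.left.appTop x)
    rw [hφ, ← ConcreteCategory.comp_apply, ← ConcreteCategory.comp_apply, ← Scheme.Hom.comp_appTop,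
      ← Scheme.Hom.comp_appTop, ← Over.comp_left, hγi, hc.fac]
  let h₀ : N ⟶ Z₀ := Over.homMk θ (by rw [← Over.w i, ← Category.assoc, hθi, Over.w])
  have hlh : l ≫ h₀ = γ := by
    refine Over.OverMorphism.ext (ext_of_isAffine ?_)
    rw [Over.comp_left, Scheme.Hom.comp_appTop]
    change θ.appTop ≫ l.left.appTop = γ.left.appTop
    rw [hθ]
    ext z
    exact hφ z
  haveI : Epi P.a := epi_of_etale_surjective P.ha P.has
  refine ⟨(yon S).map h₀ ≫ fst, ⟨?_, ?_⟩, fun h' hh' => ?_⟩
  · rw [← cancel_epi P.a, reassoc_of% hl, ← Functor.map_comp_assoc, hlh, hγ, Category.assoc, Category.assoc,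
      IsIso.inv_hom_id, Category.comp_id]
  · rw [Category.assoc, hfst, ← Functor.map_comp]
    exact congrArg _ (Over.OverMorphism.ext hθi)
  · obtain ⟨h₁, hh₁⟩ := (yon S).map_surjective (h' ≫ inv fst)
    have e1 : l ≫ h₁ = γ := by
      apply (yon S).map_injective
      rw [Functor.map_comp, hh₁, hγ, ← hl, Category.assoc, reassoc_of% hh'.1]
    have e2 : h₁ = h₀ := by
      refine Over.OverMorphism.ext (ext_of_isAffine ?_)
      ext z
      apply hc.inj
      change l.left.appTop (h₁.left.appTop z) = l.left.appTop (h₀.left.appTop z)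
      rw [← ConcreteCategory.comp_apply, ← ConcreteCategory.comp_apply, ← Scheme.Hom.comp_appTop,
        ← Scheme.Hom.comp_appTop, ← Over.comp_left, ← Over.comp_left, e1, hlh]
    rw [← e2, hh₁, Category.assoc, IsIso.inv_hom_id, Category.comp_id]

theorem AffNorm.baseChange {N : Over S} {ν : N ⟶ T} {f' : W ⟶ (yon S).obj N} (hT : IsAffine T.left)
    (h : AffNorm f ν f') {T' : Over S} (hT' : IsAffine T'.left) (j : T' ⟶ T) (hj : Smooth j.left)
    {W' : Sp S} {gW : W' ⟶ W} {fW : W' ⟶ (yon S).obj T'} (sqW : IsPullback gW fW f ((yon S).map j))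
    {N' : Over S} {gN : N' ⟶ N} {ν' : N' ⟶ T'} (sqN : IsPullback gN ν' ν j)
    (fW' : W' ⟶ (yon S).obj N') (h1 : fW' ≫ (yon S).map ν' = fW)
    (h2 : fW' ≫ (yon S).map gN = gW ≫ f') :
    AffNorm fW ν' fW' := by
  haveI := hT
  haveI := hT'
  haveI := hj
  obtain ⟨P, l, hl, hc⟩ := h
  haveI := P.hA
  haveI := P.hR
  have sA := IsPullback.of_hasPullback P.af j
  let A' := pullback P.af j
  let gA : A' ⟶ P.A := pullback.fst P.af j
  let af' : A' ⟶ T' := pullback.snd P.af j
  have sK : IsPullback (pullback.fst (P.p₁ ≫ P.af) j) (pullback.snd (P.p₁ ≫ P.af) j) (P.p₁ ≫ P.af) j :=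
    IsPullback.of_hasPullback _ _
  let K' := pullback (P.p₁ ≫ P.af) j
  let gK : K' ⟶ P.K := pullback.fst _ _
  have hpp : P.p₂ ≫ P.af = P.p₁ ≫ P.af := by
    apply (yon S).map_injective
    simp only [Functor.map_comp, ← P.haf, P.hK.w_assoc]
  let p₁' : K' ⟶ A' := pullback.lift (gK ≫ P.p₁) (pullback.snd _ _) (by rw [Category.assoc]; exact sK.w)
  let p₂' : K' ⟶ A' := pullback.lift (gK ≫ P.p₂) (pullback.snd _ _) (by rw [Category.assoc, hpp]; exact sK.w)
  have sR : IsPullback (pullback.fst P.c gK) (pullback.snd P.c gK) P.c gK := IsPullback.of_hasPullback _ _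
  let R' := pullback P.c gK
  let c' : R' ⟶ K' := pullback.snd _ _
  obtain ⟨a', ha'1, ha'2⟩ : ∃ a' : (yon S).obj A' ⟶ W', a' ≫ gW = (yon S).map gA ≫ P.a ∧
      a' ≫ fW = (yon S).map af' :=
    ⟨sqW.lift ((yon S).map gA ≫ P.a) ((yon S).map af')
      (by rw [Category.assoc, P.haf, ← Functor.map_comp, ← Functor.map_comp, sA.w]),
      sqW.lift_fst _ _ _, sqW.lift_snd _ _ _⟩
  have sqa : IsPullback ((yon S).map gA) a' P.a gW := by
    refine IsPullback.of_bot ?_ ha'1.symm sqW
    rw [ha'2, P.haf]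
    exact isPullback_yon_map sA
  -- the new kernel pair
  have sK1 : IsPullback gK p₁' P.p₁ gA := by
    refine IsPullback.of_bot (h₂₁ := gA) ?_ (pullback.lift_fst _ _ _).symm sA
    rw [pullback.lift_snd]
    exact sK
  have hp₁g : p₁' ≫ gA = gK ≫ P.p₁ := pullback.lift_fst _ _ _
  have hp₂g : p₂' ≫ gA = gK ≫ P.p₂ := pullback.lift_fst _ _ _
  have hp₁f : p₁' ≫ af' = pullback.snd _ _ := pullback.lift_snd _ _ _
  have hp₂f : p₂' ≫ af' = pullback.snd _ _ := pullback.lift_snd _ _ _
  have hK' : IsPullback ((yon S).map p₁') ((yon S).map p₂') a' a' := by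
    refine IsPullback.flip (IsPullback.of_right (h₁₂ := (yon S).map gA) (h₂₂ := gW) ?_ ?_ sqa)
    · have hbig := (isPullback_yon_map sK1).paste_horiz (h₁₂ := (yon S).map P.p₂) P.hK.flip
      rw [← Functor.map_comp, ← hp₂g, Functor.map_comp, ← ha'1] at hbig
      exact hbig
    · apply sqW.hom_ext
      · simp only [Category.assoc, ha'1, ← Functor.map_comp_assoc, hp₁g, hp₂g]
        simp only [Functor.map_comp, Category.assoc, P.hK.w]
      · simp only [Category.assoc, ha'2, ← Functor.map_comp, hp₁f, hp₂f]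
  obtain ⟨l', hl'1, hl'2⟩ : ∃ l' : A' ⟶ N', l' ≫ gN = gA ≫ l ∧ l' ≫ ν' = af' :=
    ⟨sqN.lift (gA ≫ l) af' (by rw [Category.assoc, (Over.OverMorphism.ext hc.fac : l ≫ ν = P.af)]; exact sA.w),
      sqN.lift_fst _ _ _, sqN.lift_snd _ _ _⟩
  haveI : IsAffine A'.left := IsAffine.of_isPullback (isPullback_left sA)
  have sR' : IsPullback (pullback.fst P.c gK) (c' ≫ p₁' ≫ af') ((P.c ≫ P.p₁) ≫ P.af) j := by
    rw [hp₁f, Category.assoc]
    exact sR.paste_vert sK
  haveI : IsAffine R'.left := IsAffine.of_isPullback (isPullback_left sR')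
  let P' : Pres fW :=
    { A := A', K := K', R := R', a := a', af := af', p₁ := p₁', p₂ := p₂', c := c'
      hA := inferInstance, hR := inferInstance
      ha := repWith_of_isPullback sqa P.ha, has := repWith_of_isPullback sqa P.has
      haf := ha'2, hK := hK'
      hc := MorphismProperty.of_isPullback (P := @Etale) (isPullback_left sR) P.hc
      hcs := MorphismProperty.of_isPullback (P := @Surjective) (isPullback_left sR) P.hcs }
  refine ⟨P', l', ?_, ?_⟩
  · apply (isPullback_yon_map sqN).hom_ext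
    · rw [Category.assoc, h2, ← Functor.map_comp, hl'1, Functor.map_comp, ← hl, ← Category.assoc,
        ha'1, Category.assoc]
    · rw [Category.assoc, h1, ← Functor.map_comp, hl'2]
      exact ha'2
  · refine hc.baseChange P.fac_left j.left (isPullback_left sA) (isPullback_left sR')
      (isPullback_left sqN) _ _ _ ?_ ?_ ?_ ?_ (congrArg CommaMorphism.left hl'1) (congrArg CommaMorphism.left hl'2)
    · change ((c' ≫ p₁') ≫ gA).left = (pullback.fst P.c gK ≫ P.c ≫ P.p₁).left
      rw [Category.assoc, hp₁g, sR.w_assoc]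
    · change ((c' ≫ p₁') ≫ af').left = (c' ≫ p₁' ≫ af').left
      rw [Category.assoc]
    · change ((c' ≫ p₂') ≫ gA).left = (pullback.fst P.c gK ≫ P.c ≫ P.p₂).left
      rw [Category.assoc, hp₂g, sR.w_assoc]
    · change ((c' ≫ p₂') ≫ af').left = (c' ≫ p₁' ≫ af').left
      rw [Category.assoc, hp₁f, hp₂f]

end Groth.Agent.RelNorm
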