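import Groth.Agent.RelNorm.Local
import Groth.Agent.ASp.LocP
import Groth.Agent.ASp.QcAtlas

/-!
Local normalizations: smooth base change, affine existence, transport.
-/

set_option backward.isDefEq.respectTransparency false
set_option backward.isDefEq.respectTransparency.types false

universe u

open CategoryTheory CategoryTheory.Limits AlgebraicGeometry Opposite

namespace Groth.Agent.RelNorm

open _root_.AlgSp Groth.Agent.ASp

variable {S : Scheme.{u}}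

theorem isQuasiCompactMor_baseChange {X Y X' Y' : Sp S} {f : X ⟶ Y} {g : Y' ⟶ Y} {q : X' ⟶ X} {p : X' ⟶ Y'}
    (sq : IsPullback q p f g) (h : IsQuasiCompactMor f) : IsQuasiCompactMor p :=
  fun _ _ hZ hZc g₀ fst snd sq' => h hZ hZc (g₀ ≫ g) (fst ≫ q) snd (sq'.paste_horiz sq)

theorem isQuasiSeparatedMor_baseChange {X Y X' Y' : Sp S} {f : X ⟶ Y} {g : Y' ⟶ Y} {q : X' ⟶ X} {p : X' ⟶ Y'}
    (sq : IsPullback q p f g) (h : IsQuasiSeparatedMor f) : IsQuasiSeparatedMor p :=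
  MorphismProperty.of_isPullback (P := (RepWith (S := S) @QuasiCompact).diagonal) sq h

/-- An algebraic space has a jointly surjective etale family of affine schemes. -/
theorem exists_affine_family {X : Sp S} (hX : IsAlgSpace X) :
    ∃ (ι : Type u) (T : ι → Over S) (t : ∀ i, (yon S).obj (T i) ⟶ X), (∀ i, IsAffine (T i).left) ∧
      (∀ i, RepWith @Etale (t i)) ∧ ∀ x : Points X, ∃ i, x ∈ Set.range (Points.map (t i)) := by
  obtain ⟨U, p, hp, hps⟩ := hX.atlas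
  refine ⟨U.left.affineOpens, fun V => Over.mk (V.1.ι ≫ U.hom),
    fun V => (yon S).map (Over.homMk V.1.ι rfl) ≫ p, fun V => V.2,
    fun V => repWith_comp (repWith_yon_map (inferInstanceAs (Etale V.1.ι))) hp, fun x => ?_⟩
  obtain ⟨u, rfl⟩ := surjective_ofPt hps x
  obtain ⟨V, hV, huV, -⟩ := exists_isAffineOpen_mem_and_subset (x := u) (U := (⊤ : U.left.Opens)) (by simp)
  refine ⟨⟨V, hV⟩, Points.ofScheme _ (⟨u, huV⟩ : ↥V.toScheme), ?_⟩
  rw [← Points.ofPt_eq_map_ofScheme, ofPt_yon_map_comp]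
  rfl

variable {Y X X' : Sp S} {f : Y ⟶ X} {ν : X' ⟶ X} {f' : Y ⟶ X'}

/-- An affine normalization is a local normalization. -/
theorem AffNorm.locNorm {T : Over S} {W : Sp S} {f : W ⟶ (yon S).obj T} {N : Over S} {ν : N ⟶ T}
    {f' : W ⟶ (yon S).obj N} (hT : IsAffine T.left) (hfac : f' ≫ (yon S).map ν = f) (h : AffNorm f ν f') :
    LocNorm f ((yon S).map ν) f' := by
  haveI := hT
  refine ⟨hfac, (h.isRelNormalization hT hfac).2.1, PUnit, fun _ => T, fun _ => 𝟙 _,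
    fun _ => repWith_of_isIso _, fun x => ⟨⟨⟩, x, Points.map_id x⟩, fun _ => ⟨hT,
      ⟨W, 𝟙 W, f, N, ν, 𝟙 _, f', IsPullback.of_horiz_isIso ⟨by simp⟩, IsPullback.of_horiz_isIso ⟨by simp⟩, hfac,
        by simp⟩, h⟩⟩

theorem NormAt.of_baseChange {X₁ Y₁ X₁' : Sp S} {φ : X₁ ⟶ X} {gY : Y₁ ⟶ Y} {f₁ : Y₁ ⟶ X₁} {gX : X₁' ⟶ X'}
    {ν₁ : X₁' ⟶ X₁} {f₁' : Y₁ ⟶ X₁'} (sqY : IsPullback gY f₁ f φ) (sqX : IsPullback gX ν₁ ν φ)
    (hfac₁ : f₁' ≫ ν₁ = f₁) (hcomm : f₁' ≫ gX = gY ≫ f') (hν₁ : Representable ν₁) {T : Over S}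
    {t : (yon S).obj T ⟶ X₁} (h : NormAt f ν f' (t ≫ φ)) : NormAt f₁ ν₁ f₁' t := by
  obtain ⟨D⟩ := exists_data hν₁ hfac₁ t
  have h' := h.aff h.1 (𝟙 T) (show Smooth (𝟙 T.left) from inferInstance)
    ⟨D.W, D.gW ≫ gY, D.fW, D.N, D.νT, D.gN ≫ gX, D.fW',
      by simpa using D.sqW.paste_horiz sqY, by simpa using D.sqN.paste_horiz sqX, D.fac,
      by rw [← Category.assoc, D.comm, Category.assoc, hcomm, Category.assoc]⟩
  exact ⟨h.1, D, h'⟩

/-- Local normalizations are stable under smooth base change. -/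
theorem LocNorm.baseChange (h : LocNorm f ν f') (hX : IsAlgSpace X) (hX' : IsAlgSpace X') {X₁ Y₁ X₁' : Sp S}
    (hX₁ : IsAlgSpace X₁) (hX₁' : IsAlgSpace X₁') {φ : X₁ ⟶ X} (hφ : LocP @Smooth φ)
    {gY : Y₁ ⟶ Y} {f₁ : Y₁ ⟶ X₁} {gX : X₁' ⟶ X'}
    {ν₁ : X₁' ⟶ X₁} {f₁' : Y₁ ⟶ X₁'} (sqY : IsPullback gY f₁ f φ) (sqX : IsPullback gX ν₁ ν φ)
    (hfac₁ : f₁' ≫ ν₁ = f₁) (hcomm : f₁' ≫ gX = gY ≫ f') : LocNorm f₁ ν₁ f₁' := by
  obtain ⟨hfac, hint, ι, T, t, hte, hts, hN⟩ := h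
  have hν₁ : IsIntegralMor ν₁ := isIntegralMor_baseChange sqX hint
  have hνr := ((isIntegralMor_iff hX' hX).1 hint).1
  have hν₁r := ((isIntegralMor_iff hX₁' hX₁).1 hν₁).1
  have sqP := fun i => IsPullback.of_hasPullback φ (t i)
  have hP := fun i => isAlgSpace_pullback hX.diag hX₁ (IsAlgSpace.yon_obj (T i)) φ (t i)
  choose κ V v hVa hve hvs using fun i => exists_affine_family (hP i)
  refine ⟨hfac₁, hν₁, (Σ i, κ i), fun x => V x.1 x.2, fun x => v x.1 x.2 ≫ pullback.fst φ (t x.1),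
    fun x => repWith_comp (hve x.1 x.2) (repWith_of_isPullback (sqP x.1).flip (hte x.1)), fun x => ?_, fun x => ?_⟩
  · obtain ⟨i, u, hu⟩ := hts (Points.map φ x)
    obtain ⟨u, rfl⟩ := (Points.schemeHomeo (T i)).surjective u
    obtain ⟨w, hw, -⟩ := points_exists_of_isPullback (sqP i) x (Points.schemeHomeo (T i) u) hu.symm
    obtain ⟨k, z, rfl⟩ := hvs i w
    exact ⟨⟨i, k⟩, z, by rw [Points.map_comp]; exact hw⟩
  · obtain ⟨i, k⟩ := x
    obtain ⟨j, hj⟩ := (yon S).map_surjective (v i k ≫ pullback.snd φ (t i))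
    have hb : RepWith @Etale (v i k ≫ pullback.fst φ (t i)) :=
      repWith_comp (hve i k) (repWith_of_isPullback (sqP i).flip (hte i))
    have hjs : Smooth j.left := hφ (v i k ≫ pullback.fst φ (t i)) (t i) j hb (hte i)
      (by rw [hj, Category.assoc, Category.assoc, (sqP i).w])
    refine NormAt.of_baseChange sqY sqX hfac₁ hcomm hν₁r ?_
    rw [Category.assoc, (sqP i).w, ← Category.assoc, ← hj]
    exact (hN i).comp hνr hfac (hVa i k) j hjs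

/-- Transport of a local normalization along an isomorphism of the middle term. -/
theorem LocNorm.congr (h : LocNorm f ν f') {X'' : Sp S} {ν₂ : X'' ⟶ X} {f₂' : Y ⟶ X''} (hν₂ : IsIntegralMor ν₂)
    (e : X' ≅ X'') (he : e.hom ≫ ν₂ = ν) (he' : f' ≫ e.hom = f₂') : LocNorm f ν₂ f₂' := by
  obtain ⟨hfac, hint, ι, T, t, hte, hts, hN⟩ := h
  refine ⟨by rw [← he', Category.assoc, he, hfac], hν₂, ι, T, t, hte, hts, fun i => ?_⟩
  obtain ⟨hT, D, hD⟩ := hN i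
  refine ⟨hT, ⟨D.W, D.gW, D.fW, D.N, D.νT, D.gN ≫ e.hom, D.fW', D.sqW,
    IsPullback.of_iso D.sqN (Iso.refl _) e (Iso.refl _) (Iso.refl _) (by simp) (by simp) (by simp [he]) (by simp),
    D.fac, by rw [← Category.assoc, D.comm, Category.assoc, he']⟩, hD⟩

/-- Existence over an affine scheme. -/
theorem exists_locNorm_affine {T : Over S} {W : Sp S} (f : W ⟶ (yon S).obj T) (hT : IsAffine T.left)
    (hW : IsAlgSpace W) (hqc : IsQuasiCompactMor f) (hqs : IsQuasiSeparatedMor f) :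
    ∃ (N : Over S) (ν : N ⟶ T) (f' : W ⟶ (yon S).obj N), LocNorm f ((yon S).map ν) f' ∧ AffNorm f ν f' := by
  obtain ⟨N, ν, f', hfac, h⟩ := exists_affNorm hT hW hqc hqs
  exact ⟨N, ν, f', h.locNorm hT hfac, h⟩

/-- Any normalization of `f` agrees with a given local one. -/
theorem LocNorm.of_isRelNormalization (h : LocNorm f ν f') (hX : IsAlgSpace X) (hX' : IsAlgSpace X')
    {X'' : Sp S} (hX'' : IsAlgSpace X'') {ν₂ : X'' ⟶ X} {f₂' : Y ⟶ X''} (hn : IsRelNormalization f ν₂ f₂') :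
    LocNorm f ν₂ f₂' := by
  obtain ⟨hfac₂, hν₂, hu₂⟩ := hn
  obtain ⟨a, ⟨ha1, ha2⟩, -⟩ := h.existsUnique hX hX' hX'' ν₂ f₂' hν₂ hfac₂
  obtain ⟨b, ⟨hb1, hb2⟩, -⟩ := hu₂ hX' ν f' h.2.1 h.1
  have hab : a ≫ b = 𝟙 _ := (h.existsUnique hX hX' hX' ν f' h.2.1 h.1).unique
    ⟨by rw [← Category.assoc, ha1, hb1], by rw [Category.assoc, hb2, ha2]⟩ ⟨Category.comp_id _, Category.id_comp _⟩
  have hba : b ≫ a = 𝟙 _ := (hu₂ hX'' ν₂ f₂' hν₂ hfac₂).unique
    ⟨by rw [← Category.assoc, hb1, ha1], by rw [Category.assoc, ha2, hb2]⟩ ⟨Category.comp_id _, Category.id_comp _⟩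
  exact h.congr hν₂ ⟨a, b, hab, hba⟩ ha2 ha1

end Groth.Agent.RelNorm
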