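import Groth.Agent.RelNorm.BaseChange
import Groth.Agent.ASp.YonExt

/-!
Comparison of local normalizations over the overlaps of an etale family.
-/

set_option backward.isDefEq.respectTransparency false
set_option backward.isDefEq.respectTransparency.types false

universe u

open CategoryTheory CategoryTheory.Limits AlgebraicGeometry Opposite

namespace Groth.Agent.RelNorm

open _root_.AlgSp Groth.Agent.ASp

variable {S : Scheme.{u}} {Y X : Sp S} {f : Y ⟶ X} {ι : Type u} {T : ι → Over S}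
  {t : ∀ i, (yon S).obj (T i) ⟶ X} {N : ι → Over S} {ν : ∀ i, N i ⟶ T i}
  (f' : ∀ i, pullback f (t i) ⟶ (yon S).obj (N i))

/-- `a` is the image of the point `y` of `Y` in the `i`-th local normalization. -/
def IsImg (i : ι) {P : Over S} (y : (yon S).obj P ⟶ Y) (a : P ⟶ N i) : Prop :=
  ∃ w : (yon S).obj P ⟶ pullback f (t i), w ≫ pullback.fst f (t i) = y ∧ w ≫ f' i = (yon S).map a

variable {f'} (hfac : ∀ i, f' i ≫ (yon S).map (ν i) = pullback.snd f (t i))

include hfac

theorem IsImg.snd {i : ι} {P : Over S} {a : P ⟶ N i}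
    {w : (yon S).obj P ⟶ pullback f (t i)} (h : w ≫ f' i = (yon S).map a) :
    w ≫ pullback.snd f (t i) = (yon S).map (a ≫ ν i) := by
  rw [← hfac, ← Category.assoc, h, Functor.map_comp]

theorem IsImg.over {i : ι} {P : Over S} {y : (yon S).obj P ⟶ Y} {a : P ⟶ N i} (h : IsImg f' i y a) :
    y ≫ f = (yon S).map (a ≫ ν i) ≫ t i := by
  obtain ⟨w, rfl, hw⟩ := h
  rw [Category.assoc, pullback.condition, ← Category.assoc, IsImg.snd hfac hw]

theorem IsImg.unique {i : ι} {P : Over S} {y : (yon S).obj P ⟶ Y} {a a' : P ⟶ N i} (h : IsImg f' i y a)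
    (h' : IsImg f' i y a') (e : a ≫ ν i = a' ≫ ν i) : a = a' := by
  obtain ⟨w, hw1, hw2⟩ := h
  obtain ⟨w', hw1', hw2'⟩ := h'
  apply (yon S).map_injective
  rw [← hw2, ← hw2']
  refine congrArg (· ≫ f' i) (pullback.hom_ext (hw1.trans hw1'.symm) ?_)
  rw [IsImg.snd hfac hw2, IsImg.snd hfac hw2', e]

theorem exists_isImg {i : ι} {P : Over S} (y : (yon S).obj P ⟶ Y) (u : P ⟶ T i)
    (h : y ≫ f = (yon S).map u ≫ t i) : ∃ a : P ⟶ N i, IsImg f' i y a ∧ a ≫ ν i = u := by
  obtain ⟨a, ha⟩ := (yon S).map_surjective (pullback.lift y ((yon S).map u) h ≫ f' i)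
  refine ⟨a, ⟨_, pullback.lift_fst _ _ _, ha.symm⟩, (yon S).map_injective ?_⟩
  rw [Functor.map_comp, ha, Category.assoc, hfac, pullback.lift_snd]

omit hfac in
theorem IsImg.comp {i : ι} {P P' : Over S} {y : (yon S).obj P ⟶ Y} {a : P ⟶ N i} (h : IsImg f' i y a)
    (g : P' ⟶ P) : IsImg f' i ((yon S).map g ≫ y) (g ≫ a) := by
  obtain ⟨w, rfl, hw⟩ := h
  exact ⟨(yon S).map g ≫ w, Category.assoc _ _ _, by rw [Category.assoc, hw, Functor.map_comp]⟩

variable (hY : IsAlgSpace Y) (hX : IsAlgSpace X)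
  (hL : ∀ i, LocNorm (pullback.snd f (t i)) ((yon S).map (ν i)) (f' i))

include hY hX hL

/-- Over an etale overlap there is exactly one map between the local normalizations which respects the
images of the points of `Y`. -/
theorem existsUnique_transition {i k : ι} {Q : Over S} (q : Q ⟶ T i) (r : Q ⟶ T k) (hq : Etale q.left)
    (e : (yon S).map q ≫ t i = (yon S).map r ≫ t k) {M : Over S} {m₁ : M ⟶ N i} {m₂ : M ⟶ Q}
    (sq : IsPullback m₁ m₂ (ν i) q) :
    ∃! c : M ⟶ N k, c ≫ ν k = m₂ ≫ r ∧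
      ∀ (P : Over S) (m : P ⟶ M) (y : (yon S).obj P ⟶ Y), IsImg f' i y (m ≫ m₁) → IsImg f' k y (m ≫ c) := by
  let tQ : (yon S).obj Q ⟶ X := (yon S).map q ≫ t i
  obtain ⟨gi, hgi1, hgi2⟩ : ∃ gi : pullback f tQ ⟶ pullback f (t i), gi ≫ pullback.fst _ _ = pullback.fst _ _ ∧
      gi ≫ pullback.snd _ _ = pullback.snd f tQ ≫ (yon S).map q :=
    ⟨pullback.lift (pullback.fst _ _) (pullback.snd f tQ ≫ (yon S).map q)
      (by rw [Category.assoc]; exact pullback.condition), pullback.lift_fst _ _ _, pullback.lift_snd _ _ _⟩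
  obtain ⟨gk, hgk1, hgk2⟩ : ∃ gk : pullback f tQ ⟶ pullback f (t k), gk ≫ pullback.fst _ _ = pullback.fst _ _ ∧
      gk ≫ pullback.snd _ _ = pullback.snd f tQ ≫ (yon S).map r :=
    ⟨pullback.lift (pullback.fst _ _) (pullback.snd f tQ ≫ (yon S).map r)
      (by rw [Category.assoc, ← e]; exact pullback.condition), pullback.lift_fst _ _ _, pullback.lift_snd _ _ _⟩
  have sqW : IsPullback gi (pullback.snd f tQ) (pullback.snd f (t i)) ((yon S).map q) := by
    refine IsPullback.of_right ?_ hgi2 (IsPullback.of_hasPullback f (t i))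
    rw [hgi1]
    exact IsPullback.of_hasPullback f tQ
  have sqM := isPullback_yon_map sq
  obtain ⟨fQ, hfQ1, hfQ2⟩ : ∃ fQ : pullback f tQ ⟶ (yon S).obj M, fQ ≫ (yon S).map m₁ = gi ≫ f' i ∧
      fQ ≫ (yon S).map m₂ = pullback.snd f tQ :=
    ⟨sqM.lift (gi ≫ f' i) (pullback.snd f tQ) (by rw [Category.assoc, hfac, hgi2]),
      sqM.lift_fst _ _ _, sqM.lift_snd _ _ _⟩
  have hsm : LocP @Smooth ((yon S).map q) :=
    locP_of_repWith (repWith_yon_map (haveI := hq; (inferInstance : Smooth q.left)))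
  have hLQ := (hL i).baseChange (IsAlgSpace.yon_obj _) (IsAlgSpace.yon_obj _) (IsAlgSpace.yon_obj Q)
    (IsAlgSpace.yon_obj M) hsm sqW sqM hfQ2 hfQ1
  have hint : IsIntegralHom (ν k).left := by
    have := (isIntegralMor_iff (IsAlgSpace.yon_obj (N k)) (IsAlgSpace.yon_obj (T k))).1 (hL k).2.1
    exact (repWith_yon_map_iff _ _).1 this
  have sqK := IsPullback.of_hasPullback (ν k) r
  have sqK' := isPullback_yon_map sqK
  obtain ⟨h, ⟨hh1, hh2⟩, hhu⟩ := hLQ.existsUnique (IsAlgSpace.yon_obj Q) (IsAlgSpace.yon_obj M)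
    (IsAlgSpace.yon_obj (pullback (ν k) r)) ((yon S).map (pullback.snd (ν k) r))
    (sqK'.lift (gk ≫ f' k) (pullback.snd f tQ) (by rw [Category.assoc, hfac, hgk2]))
    ((isIntegralMor_iff (IsAlgSpace.yon_obj _) (IsAlgSpace.yon_obj _)).2
      (repWith_yon_map (MorphismProperty.of_isPullback (isPullback_left sqK) hint)))
    (sqK'.lift_snd _ _ _)
  obtain ⟨h, rfl⟩ := (yon S).map_surjective h
  have hh2' : h ≫ pullback.snd (ν k) r = m₂ := (yon S).map_injective (by rw [Functor.map_comp, hh2])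
  refine ⟨h ≫ pullback.fst (ν k) r, ⟨?_, fun P m y hy => ?_⟩, fun c hc => ?_⟩
  · rw [Category.assoc, pullback.condition, reassoc_of% hh2']
  · obtain ⟨w, hw1, hw2⟩ := hy
    have hw3 := IsImg.snd hfac hw2
    obtain ⟨w', hw'1, hw'2⟩ : ∃ w' : (yon S).obj P ⟶ pullback f tQ, w' ≫ pullback.fst f tQ = y ∧
        w' ≫ pullback.snd f tQ = (yon S).map (m ≫ m₂) := by
      refine ⟨pullback.lift y ((yon S).map (m ≫ m₂)) ?_, pullback.lift_fst _ _ _, pullback.lift_snd _ _ _⟩
      rw [← hw1, Category.assoc, pullback.condition, ← Category.assoc, hw3]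
      simp only [tQ, ← Functor.map_comp_assoc, Category.assoc, sq.w]
    have hwi : w' ≫ gi = w := by
      apply pullback.hom_ext
      · rw [Category.assoc, hgi1, hw'1, hw1]
      · rw [Category.assoc, hgi2, reassoc_of% hw'2, ← Functor.map_comp, hw3]
        simp only [Category.assoc, sq.w]
    have hwm : w' ≫ fQ = (yon S).map m := by
      apply sqM.hom_ext
      · rw [Category.assoc, hfQ1, reassoc_of% hwi, hw2, Functor.map_comp]
      · rw [Category.assoc, hfQ2, hw'2, Functor.map_comp]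
    refine ⟨w' ≫ gk, by rw [Category.assoc, hgk1, hw'1], ?_⟩
    rw [Functor.map_comp, Functor.map_comp, ← hwm, Category.assoc, Category.assoc, reassoc_of% hh1,
      sqK'.lift_fst]
  · obtain ⟨hc1, hc2⟩ := hc
    have key : (yon S).map (pullback.lift c m₂ hc1) = (yon S).map h := by
      refine hhu _ ⟨?_, by rw [← Functor.map_comp, pullback.lift_snd]⟩
      apply sqK'.hom_ext
      · rw [Category.assoc, sqK'.lift_fst, ← Functor.map_comp, pullback.lift_fst]
        refine hom_ext_of_yon fun P b => ?_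
        obtain ⟨m, hm⟩ := (yon S).map_surjective (b ≫ fQ)
        obtain ⟨w, hw1, hw2⟩ := hc2 P m (b ≫ pullback.fst f tQ)
          ⟨b ≫ gi, by rw [Category.assoc, hgi1], by rw [Category.assoc, ← hfQ1, Functor.map_comp, hm, Category.assoc]⟩
        have hw : w = b ≫ gk := by
          apply pullback.hom_ext
          · rw [hw1, Category.assoc, hgk1]
          · rw [IsImg.snd hfac hw2, Category.assoc, hc1, Category.assoc, hgk2, ← reassoc_of% hfQ2,
              ← reassoc_of% hm]
            simp only [Functor.map_comp, Category.assoc]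
        rw [← reassoc_of% hm, ← Functor.map_comp, ← hw2, hw, Category.assoc]
      · rw [Category.assoc, sqK'.lift_snd, ← Functor.map_comp, pullback.lift_snd, hfQ2]
    rw [← (yon S).map_injective key, pullback.lift_fst]

end Groth.Agent.RelNorm
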