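import Groth.Agent.ASp.EtaleCover
import Groth.Agent.ASp.FppfGlue
import Groth.Agent.ASp.ClosedIdeal
import Groth.Agent.ASp.Affine
import Groth.Agent.ASp.Morph

/-!
Maps out of a sheaf descend along jointly surjective etale families of schemes.
-/

set_option backward.isDefEq.respectTransparency false
set_option backward.isDefEq.respectTransparency.types false

universe u

open CategoryTheory CategoryTheory.Limits AlgebraicGeometry Opposite

namespace Groth.Agent.RelNorm

open _root_.AlgSp Groth.Agent.ASp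

variable {S : Scheme.{u}}

/-- A jointly surjective etale family of schemes assembles into an etale atlas. -/
theorem exists_sigma_chart {F : Sp S} {ι : Type u} (U : ι → Over S) (q : ∀ i, (yon S).obj (U i) ⟶ F)
    (hq : ∀ i, RepWith @Etale (q i)) (hs : ∀ x : Points F, ∃ i, x ∈ Set.range (Points.map (q i))) :
    ∃ (Z : Over S) (ζ : ∀ i, U i ⟶ Z) (p : (yon S).obj Z ⟶ F), RepWith @Etale p ∧ RepWith @Surjective p ∧
      (∀ i, (yon S).map (ζ i) ≫ p = q i) ∧ (∀ i, IsOpenImmersion (ζ i).left) ∧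
      (∀ z : ↥Z.left, ∃ i, z ∈ Set.range (ζ i).left) ∧
      ∀ {G : Sp S} (k : ∀ i, (yon S).obj (U i) ⟶ G),
        ∃ k' : (yon S).obj Z ⟶ G, ∀ i, (yon S).map (ζ i) ≫ k' = k i := by
  let Z : Over S := Over.mk (Limits.Sigma.desc fun i => (U i).hom)
  let ζ : ∀ i, U i ⟶ Z := fun i =>
    Over.homMk (Sigma.ι (fun i => (U i).left) i) (Sigma.ι_desc _ _)
  obtain ⟨p, hp⟩ := exists_sigma_desc Z U ζ rfl (fun i => Category.comp_id _) q
  have hpe : RepWith @Etale p := repWith_of_exists fun T g => by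
    choose V a b hpb using fun i => exists_isPullback_yon (U := U i) (V := T) (g := q i) (hq i).1 g
    let Z' : Over S := Over.mk (Limits.Sigma.desc fun i => (V i).hom)
    let σ : ∀ i, V i ⟶ Z' := fun i =>
      Over.homMk (Sigma.ι (fun i => (V i).left) i) (Sigma.ι_desc _ _)
    let A : Z' ⟶ Z := Over.homMk (Limits.Sigma.desc fun i => (a i).left ≫ Sigma.ι (fun i => (U i).left) i)
      (Sigma.hom_ext _ _ fun i => by
        change Sigma.ι (fun i => (V i).left) i ≫ Limits.Sigma.desc _ ≫ Limits.Sigma.desc _ =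
          Sigma.ι (fun i => (V i).left) i ≫ Limits.Sigma.desc _
        rw [Sigma.ι_desc_assoc, Category.assoc, Sigma.ι_desc, Sigma.ι_desc]
        exact Over.w (a i))
    let B : Z' ⟶ T := Over.homMk (Limits.Sigma.desc fun i => (b i).left)
      (Sigma.hom_ext _ _ fun i => by
        change Sigma.ι (fun i => (V i).left) i ≫ Limits.Sigma.desc _ ≫ T.hom =
          Sigma.ι (fun i => (V i).left) i ≫ Limits.Sigma.desc _
        rw [Sigma.ι_desc_assoc, Sigma.ι_desc]
        exact Over.w (b i))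
    refine ⟨Z', (yon S).map A, B, isPullback_sigma ζ rfl (fun i => Category.comp_id _) σ rfl
      (fun i => Category.comp_id _) a b A B (fun i => Over.OverMorphism.ext (Sigma.ι_desc _ _))
      (fun i => Over.OverMorphism.ext (Sigma.ι_desc _ _)) p g (fun i => (hp i).symm ▸ hpb i), ?_⟩
    change Etale (Limits.Sigma.desc fun i => (b i).left)
    rw [IsZariskiLocalAtSource.iff_of_openCover (P := @Etale) (sigmaOpenCover fun i => (V i).left)]
    intro i
    rw [show (sigmaOpenCover fun i => (V i).left).f i ≫ Limits.Sigma.desc (fun i => (b i).left) = (b i).left from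
      Sigma.ι_desc _ _]
    exact (hq i).2 _ _ _ (hpb i)
  refine ⟨Z, ζ, p, hpe, (repWith_surjective_iff hpe.1).2 fun x => ?_, hp,
    fun i => inferInstanceAs (IsOpenImmersion (Sigma.ι (fun i => (U i).left) i)), fun z => ?_,
    fun k => exists_sigma_desc Z U ζ rfl (fun i => Category.comp_id _) k⟩
  · obtain ⟨i, u, rfl⟩ := hs x
    exact ⟨Points.map ((yon S).map (ζ i)) u, by rw [← Points.map_comp, hp]⟩
  · obtain ⟨i, y, hy⟩ := (sigmaOpenCover fun i => (U i).left).exists_eq z
    exact ⟨i, y, hy⟩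

/-- Maps out of a sheaf descend along a jointly surjective etale family of schemes. -/
theorem existsUnique_desc_family {F : Sp S} {ι : Type u} (U : ι → Over S) (q : ∀ i, (yon S).obj (U i) ⟶ F)
    (hq : ∀ i, RepWith @Etale (q i)) (hs : ∀ x : Points F, ∃ i, x ∈ Set.range (Points.map (q i)))
    {G : Sp S} (k : ∀ i, (yon S).obj (U i) ⟶ G)
    (hk : ∀ (i j : ι) (W : Over S) (a : W ⟶ U i) (b : W ⟶ U j),
      (yon S).map a ≫ q i = (yon S).map b ≫ q j → (yon S).map a ≫ k i = (yon S).map b ≫ k j) :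
    ∃! φ : F ⟶ G, ∀ i, q i ≫ φ = k i := by
  obtain ⟨Z, ζ, p, hpe, hps, hp, hζo, hζs, hdesc⟩ := exists_sigma_chart U q hq hs
  obtain ⟨k', hk'⟩ := hdesc k
  haveI : Epi p := epi_of_etale_surjective hpe hps
  obtain ⟨R, r₁, r₂, hR⟩ := exists_isPullback_yon hpe.1 p
  haveI := hζo
  have e : (yon S).map r₁ ≫ k' = (yon S).map r₂ ≫ k' := by
    refine hom_ext_fppf (ι := ι × ι)
      (c := fun x : ι × ι => pullback.fst (pullback.fst r₁ (ζ x.1) ≫ r₂) (ζ x.2) ≫ pullback.fst r₁ (ζ x.1))
      (fun x => ?_) (fun x => ?_) (fun t => ?_) (fun x => ?_)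
    · have h1 : IsOpenImmersion (pullback.fst r₁ (ζ x.1)).left :=
        MorphismProperty.of_isPullback (isPullback_left (IsPullback.of_hasPullback r₁ (ζ x.1))).flip (hζo x.1)
      have h2 : IsOpenImmersion (pullback.fst (pullback.fst r₁ (ζ x.1) ≫ r₂) (ζ x.2)).left :=
        MorphismProperty.of_isPullback
          (isPullback_left (IsPullback.of_hasPullback (pullback.fst r₁ (ζ x.1) ≫ r₂) (ζ x.2))).flip (hζo x.2)
      rw [Over.comp_left]
      infer_instance
    · have h1 : IsOpenImmersion (pullback.fst r₁ (ζ x.1)).left :=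
        MorphismProperty.of_isPullback (isPullback_left (IsPullback.of_hasPullback r₁ (ζ x.1))).flip (hζo x.1)
      have h2 : IsOpenImmersion (pullback.fst (pullback.fst r₁ (ζ x.1) ≫ r₂) (ζ x.2)).left :=
        MorphismProperty.of_isPullback
          (isPullback_left (IsPullback.of_hasPullback (pullback.fst r₁ (ζ x.1) ≫ r₂) (ζ x.2))).flip (hζo x.2)
      rw [Over.comp_left]
      infer_instance
    · obtain ⟨i, u, hu⟩ := hζs (r₁.left t)
      have sq1 := isPullback_left (IsPullback.of_hasPullback r₁ (ζ i))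
      obtain ⟨t₁, ht₁, -⟩ := Scheme.Pullback.exists_preimage_pullback t u hu.symm
      obtain ⟨j, v, hv⟩ := hζs ((pullback.fst r₁ (ζ i) ≫ r₂).left (sq1.isoPullback.inv t₁))
      have sq2 := isPullback_left (IsPullback.of_hasPullback (pullback.fst r₁ (ζ i) ≫ r₂) (ζ j))
      obtain ⟨t₂, ht₂, -⟩ := Scheme.Pullback.exists_preimage_pullback (sq1.isoPullback.inv t₁) v hv.symm
      refine ⟨(i, j), sq2.isoPullback.inv t₂, ?_⟩
      have e1 : (pullback.fst (pullback.fst r₁ (ζ i) ≫ r₂) (ζ j)).left (sq2.isoPullback.inv t₂) =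
          sq1.isoPullback.inv t₁ := by
        rw [← Scheme.Hom.comp_apply, IsPullback.isoPullback_inv_fst]; exact ht₂
      rw [Over.comp_left, Scheme.Hom.comp_apply, e1, ← Scheme.Hom.comp_apply, IsPullback.isoPullback_inv_fst]
      exact ht₁
    · obtain ⟨i, j⟩ := x
      dsimp only
      have w1 : (pullback.fst (pullback.fst r₁ (ζ i) ≫ r₂) (ζ j) ≫ pullback.fst r₁ (ζ i)) ≫ r₁ =
          (pullback.fst (pullback.fst r₁ (ζ i) ≫ r₂) (ζ j) ≫ pullback.snd r₁ (ζ i)) ≫ ζ i := by
        simp only [Category.assoc, pullback.condition]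
      have w2 : (pullback.fst (pullback.fst r₁ (ζ i) ≫ r₂) (ζ j) ≫ pullback.fst r₁ (ζ i)) ≫ r₂ =
          pullback.snd (pullback.fst r₁ (ζ i) ≫ r₂) (ζ j) ≫ ζ j := by
        rw [Category.assoc, pullback.condition]
      generalize pullback.fst (pullback.fst r₁ (ζ i) ≫ r₂) (ζ j) ≫ pullback.fst r₁ (ζ i) = g at w1 w2 ⊢
      generalize pullback.fst (pullback.fst r₁ (ζ i) ≫ r₂) (ζ j) ≫ pullback.snd r₁ (ζ i) = a at w1 ⊢
      generalize pullback.snd (pullback.fst r₁ (ζ i) ≫ r₂) (ζ j) = b at w2 ⊢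
      have e' : ∀ {G' : Sp S} (m : (yon S).obj Z ⟶ G'),
          (yon S).map g ≫ (yon S).map r₁ ≫ m = (yon S).map a ≫ (yon S).map (ζ i) ≫ m ∧
          (yon S).map g ≫ (yon S).map r₂ ≫ m = (yon S).map b ≫ (yon S).map (ζ j) ≫ m := fun m => by
        constructor <;> rw [← Functor.map_comp_assoc, ← Functor.map_comp_assoc]
        · rw [w1]
        · rw [w2]
      rw [(e' k').1, (e' k').2, hk', hk']
      refine hk i j _ _ _ ?_
      rw [← hp i, ← hp j, ← (e' p).1, ← (e' p).2, hR.w]
  obtain ⟨φ, hφ⟩ := exists_desc_of_epi p hR k' e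
  refine ⟨φ, fun i => by rw [← hp i, Category.assoc, hφ, hk'], fun ψ hψ => ?_⟩
  refine (cancel_epi p).1 (hom_ext_fppf (U := U) (c := ζ) (fun i => ?_) (fun i => ?_) hζs fun i => ?_)
  · haveI := hζo i; infer_instance
  · haveI := hζo i; infer_instance
  · rw [← Category.assoc, ← Category.assoc, hp, hψ, ← hp i, Category.assoc, hφ, hk']

theorem hom_ext_family {F : Sp S} {ι : Type u} (U : ι → Over S) (q : ∀ i, (yon S).obj (U i) ⟶ F)
    (hq : ∀ i, RepWith @Etale (q i)) (hs : ∀ x : Points F, ∃ i, x ∈ Set.range (Points.map (q i)))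
    {G : Sp S} {φ ψ : F ⟶ G} (h : ∀ i, q i ≫ φ = q i ≫ ψ) : φ = ψ :=
  (existsUnique_desc_family U q hq hs (fun i => q i ≫ φ)
    fun i j W a b e => by rw [← Category.assoc, ← Category.assoc, e]).unique (fun _ => rfl) fun i => (h i).symm

end Groth.Agent.RelNorm
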