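import Groth.Agent.RelNorm.Overlap
import Groth.Agent.ASp.EqvQuot
import Groth.Agent.ASp.Fpqc

/-!
The normalization of an algebraic space in a quasi-compact quasi-separated morphism exists.
-/

set_option backward.isDefEq.respectTransparency false
set_option backward.isDefEq.respectTransparency.types false

universe u

open CategoryTheory CategoryTheory.Limits AlgebraicGeometry Opposite

namespace Groth.Agent.RelNorm

open _root_.AlgSp Groth.Agent.ASp

variable {S : Scheme.{u}} {Y X : Sp S} {f : Y ⟶ X} {ι : Type u} {T : ι → Over S}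
  {t : ∀ i, (yon S).obj (T i) ⟶ X} {N : ι → Over S} {ν : ∀ i, N i ⟶ T i}
  {f' : ∀ i, pullback f (t i) ⟶ (yon S).obj (N i)}

/-- The relation of a sigma atlas pieces. -/
theorem exists_trans (hfac : ∀ i, f' i ≫ (yon S).map (ν i) = pullback.snd f (t i))
    (hY : IsAlgSpace Y) (hX : IsAlgSpace X)
    (hL : ∀ i, LocNorm (pullback.snd f (t i)) ((yon S).map (ν i)) (f' i))
    {U : Over S} {ζ : ∀ i, T i ⟶ U} (hU : IsSigma T U ζ) {p : (yon S).obj U ⟶ X}
    (hp : ∀ i, (yon S).map (ζ i) ≫ p = t i) (hpe : RepWith @Etale p)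
    {R : Over S} {r₁ r₂ : R ⟶ U} (hR : IsPullback ((yon S).map r₁) ((yon S).map r₂) p p) (i k : ι) :
    ∃ (D : Trans t ν f' i k) (ρ : D.Q ⟶ R), IsOpenImmersion ρ.left ∧ ρ ≫ r₁ = D.u ≫ ζ i ∧
      ρ ≫ r₂ = D.v ≫ ζ k ∧ ∀ x, r₁.left x ∈ Set.range (ζ i).left → r₂.left x ∈ Set.range (ζ k).left →
        x ∈ Set.range ρ.left := by
  haveI := hU.openImm i
  haveI := hU.openImm k
  have s1 := IsPullback.of_hasPullback r₁ (ζ i)
  have s2 := IsPullback.of_hasPullback (pullback.fst r₁ (ζ i) ≫ r₂) (ζ k)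
  let Q := pullback (pullback.fst r₁ (ζ i) ≫ r₂) (ζ k)
  let u : Q ⟶ T i := pullback.fst (pullback.fst r₁ (ζ i) ≫ r₂) (ζ k) ≫ pullback.snd r₁ (ζ i)
  let v : Q ⟶ T k := pullback.snd (pullback.fst r₁ (ζ i) ≫ r₂) (ζ k)
  let ρ : Q ⟶ R := pullback.fst (pullback.fst r₁ (ζ i) ≫ r₂) (ζ k) ≫ pullback.fst r₁ (ζ i)
  have h1 : IsOpenImmersion (pullback.fst r₁ (ζ i)).left :=
    MorphismProperty.of_isPullback (isPullback_left s1).flip (hU.openImm i)
  have h2 : IsOpenImmersion (pullback.fst (pullback.fst r₁ (ζ i) ≫ r₂) (ζ k)).left :=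
    MorphismProperty.of_isPullback (isPullback_left s2).flip (hU.openImm k)
  have hρ : IsOpenImmersion ρ.left := by simp only [ρ, Over.comp_left]; infer_instance
  have hρ1 : ρ ≫ r₁ = u ≫ ζ i := by simp only [ρ, u, Category.assoc, s1.w]
  have hρ2 : ρ ≫ r₂ = v ≫ ζ k := by simp only [ρ, v, Category.assoc, s2.w]
  have hQ : IsPullback ((yon S).map u) ((yon S).map v) (t i) (t k) := by
    have q1 : IsPullback ((yon S).map (pullback.snd r₁ (ζ i)))
        ((yon S).map (pullback.fst r₁ (ζ i)) ≫ (yon S).map r₂) (t i) p := by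
      rw [← hp i]
      exact ((isPullback_yon_map s1).paste_horiz hR.flip).flip.flip.flip
    rw [← Functor.map_comp] at q1
    have q2 : IsPullback ((yon S).map u) ((yon S).map v) (t i) ((yon S).map (ζ k) ≫ p) := by
      have := (isPullback_yon_map s2).paste_horiz q1
      simpa only [u, v, Functor.map_comp] using this
    rwa [hp k] at q2
  haveI hr₁ : Etale r₁.left := hpe.2 _ _ _ hR.flip
  have hue : Etale u.left := by
    have : Etale (u.left ≫ (ζ i).left) := by rw [← Over.comp_left, ← hρ1, Over.comp_left]; infer_instance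
    exact MorphismProperty.of_postcomp @Etale u.left (ζ i).left (show Etale (ζ i).left from inferInstance) this
  have hve : Etale v.left := by
    haveI hr₂ : Etale r₂.left := hpe.2 _ _ _ hR
    have : Etale (v.left ≫ (ζ k).left) := by rw [← Over.comp_left, ← hρ2, Over.comp_left]; infer_instance
    exact MorphismProperty.of_postcomp @Etale v.left (ζ k).left (show Etale (ζ k).left from inferInstance) this
  have sq := IsPullback.of_hasPullback (ν i) u
  obtain ⟨c, ⟨hc, hcompat⟩, -⟩ := existsUnique_transition hfac hY hX hL u v hue hQ.w sq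
  refine ⟨⟨Q, u, v, hQ, hue, _, _, _, sq, c, hc, hcompat⟩, ρ, hρ, hρ1, hρ2, fun x ⟨a, ha⟩ ⟨b, hb⟩ => ?_⟩
  obtain ⟨x₁, hx₁, -⟩ := Scheme.Pullback.exists_preimage_pullback x a ha.symm
  have hy : (pullback.fst r₁ (ζ i)).left ((isPullback_left s1).isoPullback.inv x₁) = x := by
    rw [← Scheme.Hom.comp_apply, IsPullback.isoPullback_inv_fst]; exact hx₁
  obtain ⟨x₂, hx₂, -⟩ := Scheme.Pullback.exists_preimage_pullback
    (f := (pullback.fst r₁ (ζ i) ≫ r₂).left) (g := (ζ k).left) ((isPullback_left s1).isoPullback.inv x₁) b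
    (by rw [Over.comp_left, Scheme.Hom.comp_apply, hy]; exact hb.symm)
  refine ⟨(isPullback_left s2).isoPullback.inv x₂, ?_⟩
  simp only [ρ, Over.comp_left, Scheme.Hom.comp_apply]
  refine (congrArg (pullback.fst r₁ (ζ i)).left ?_).trans hy
  rw [← Scheme.Hom.comp_apply, IsPullback.isoPullback_inv_fst]
  exact hx₂

/-- Local normalizations over an etale family glue. -/
theorem exists_glue (hfac : ∀ i, f' i ≫ (yon S).map (ν i) = pullback.snd f (t i))
    (hY : IsAlgSpace Y) (hX : IsAlgSpace X) (hTa : ∀ i, IsAffine (T i).left)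
    (hte : ∀ i, RepWith @Etale (t i)) (hts : ∀ x : Points X, ∃ i, x ∈ Set.range (Points.map (t i)))
    (hL : ∀ i, LocNorm (pullback.snd f (t i)) ((yon S).map (ν i)) (f' i))
    (hA : ∀ i, AffNorm (pullback.snd f (t i)) (ν i) (f' i)) :
    ∃ (X' : Sp S) (νX : X' ⟶ X) (fX : Y ⟶ X'), IsAlgSpace X' ∧ LocNorm f νX fX := by
  classical
  -- atlases of disjoint unions
  obtain ⟨U, ζ, hU⟩ := exists_isSigma T
  obtain ⟨Nt, η, hN⟩ := exists_isSigma N
  obtain ⟨νU, hνU⟩ := hN.exists_hom fun i => ν i ≫ ζ i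
  obtain ⟨p, hp⟩ := hU.desc t
  have hNsq : ∀ i, IsPullback (ν i) (η i) (ζ i) νU := fun i => hU.isPullback hN ν νU hνU i
  haveI hνUint : IsIntegralHom νU.left := by
    rw [IsZariskiLocalAtTarget.iff_of_openCover (P := @IsIntegralHom)
      (Scheme.Cover.mkOfCovers ι (fun i => (T i).left) (fun i => (ζ i).left) hU.cover fun i => hU.openImm i)]
    intro i
    have hi : IsIntegralHom (ν i).left :=
      (repWith_yon_map_iff _ _).1 ((isIntegralMor_iff (IsAlgSpace.yon_obj _) (IsAlgSpace.yon_obj _)).1 (hL i).2.1)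
    have := (isPullback_left (hNsq i)).flip
    change IsIntegralHom (pullback.snd νU.left (ζ i).left)
    rwa [← this.isoPullback_inv_snd, MorphismProperty.cancel_left_of_respectsIso (P := @IsIntegralHom)]
  have hps : ∀ x : Points X, ∃ z, Points.map p z = x := fun x => by
    obtain ⟨i, u, hu⟩ := hts x
    exact ⟨Points.map ((yon S).map (ζ i)) u, by rw [← Points.map_comp, hp, hu]⟩
  have hpe : RepWith @Etale p := repWith_of_locP hX (hX.representable_from_yon p) (by
    intro A B a b h ha hb e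
    obtain ⟨a, rfl⟩ := (yon S).map_surjective a
    have hae : Etale a.left := (repWith_yon_map_iff _ _).1 ha
    let W : ι → Over S := fun i => pullback a (ζ i)
    let c : ∀ i, W i ⟶ A := fun i => pullback.fst a (ζ i)
    have hco : ∀ i, IsOpenImmersion (c i).left := fun i =>
      MorphismProperty.of_isPullback (isPullback_left (IsPullback.of_hasPullback a (ζ i))).flip (hU.openImm i)
    have hcs : ∀ x, ∃ i, x ∈ Set.range (c i).left := fun x => by
      obtain ⟨i, z, hz⟩ := hU.cover (a.left x)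
      obtain ⟨w, hw, -⟩ := Scheme.Pullback.exists_preimage_pullback x z hz.symm
      refine ⟨i, (isPullback_left (IsPullback.of_hasPullback a (ζ i))).isoPullback.inv w, ?_⟩
      rw [← Scheme.Hom.comp_apply, IsPullback.isoPullback_inv_fst]
      exact hw
    rw [IsZariskiLocalAtSource.iff_of_openCover (P := @Etale)
      (Scheme.Cover.mkOfCovers ι (fun i => (W i).left) (fun i => (c i).left) hcs fun i => hco i)]
    intro i
    have hw2 : Etale (pullback.snd a (ζ i)).left :=
      MorphismProperty.of_isPullback (isPullback_left (IsPullback.of_hasPullback a (ζ i))) hae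
    refine locP_of_repWith (hte i) ((yon S).map (pullback.snd a (ζ i))) b (c i ≫ h) (repWith_yon_map hw2) hb ?_
    rw [← hp i, ← Functor.map_comp_assoc, ← pullback.condition, Functor.map_comp_assoc, e,
      Functor.map_comp_assoc])
  have hpsR : RepWith @Surjective p := (repWith_surjective_iff hpe.1).2 hps
  obtain ⟨R, r₁, r₂, hR⟩ := exists_isPullback_yon hpe.1 p
  choose D ρ hρo hρ1 hρ2 hρr using fun i k => exists_trans hfac hY hX hL hU hp hpe hR i k
  -- the pieces of `P = Nt ×_U R`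
  have sP := IsPullback.of_hasPullback νU r₁
  let P := pullback νU r₁
  let s : P ⟶ Nt := pullback.fst νU r₁
  let πR : P ⟶ R := pullback.snd νU r₁
  have hσex : ∀ i k, ∃ σ : (D i k).M ⟶ P, σ ≫ s = (D i k).m₁ ≫ η i ∧ σ ≫ πR = (D i k).m₂ ≫ ρ i k := fun i k =>
    ⟨sP.lift ((D i k).m₁ ≫ η i) ((D i k).m₂ ≫ ρ i k)
      (by rw [Category.assoc, hνU, Category.assoc, hρ1, reassoc_of% (D i k).sq.w]), sP.lift_fst _ _ _, sP.lift_snd _ _ _⟩
  choose σ hσs hσR using hσex
  have hσsq : ∀ i k, IsPullback (σ i k) (D i k).m₂ πR (ρ i k) := fun i k => by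
    refine IsPullback.of_right ?_ (hσR i k) sP
    change IsPullback (σ i k ≫ s) (D i k).m₂ νU (ρ i k ≫ r₁)
    rw [hσs, hρ1]
    exact (D i k).sq.paste_horiz (hNsq i).flip
  have hσo : ∀ i k, IsOpenImmersion (σ i k).left := fun i k =>
    MorphismProperty.of_isPullback (isPullback_left (hσsq i k)).flip (hρo i k)
  have hσfl : ∀ x : ι × ι, Flat (σ x.1 x.2).left := fun x => haveI := hσo x.1 x.2; inferInstance
  have hσfp : ∀ x : ι × ι, LocallyOfFinitePresentation (σ x.1 x.2).left := fun x =>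
    haveI := hσo x.1 x.2; inferInstance
  have hσc : ∀ z : ↥P.left, ∃ x : ι × ι, z ∈ Set.range (σ x.1 x.2).left := fun z => by
    obtain ⟨i, hi⟩ := hU.cover (r₁.left (πR.left z))
    obtain ⟨k, hk⟩ := hU.cover (r₂.left (πR.left z))
    obtain ⟨q, hq⟩ := hρr i k _ hi hk
    obtain ⟨w, hw, -⟩ := Scheme.Pullback.exists_preimage_pullback z q hq.symm
    refine ⟨(i, k), (isPullback_left (hσsq i k)).isoPullback.inv w, ?_⟩
    rw [← Scheme.Hom.comp_apply, IsPullback.isoPullback_inv_fst]
    exact hw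
  -- indices of a point
  have hidx : ∀ {W : Over S} {i i' : ι} (a : W ⟶ T i) (b : W ⟶ T i') {G : Over S} (k k' : W ⟶ G),
      a ≫ ζ i = b ≫ ζ i' → i ≠ i' → k = k' := by
    intro W i i' a b G k k' h hne
    haveI := hU.disjoint i i' W a b h hne
    exact Over.OverMorphism.ext (isInitialOfIsEmpty.hom_ext _ _)
  obtain ⟨φ', hφ', -⟩ := existsUnique_glue (T := P) (c := fun x : ι × ι => σ x.1 x.2) hσfl hσfp hσc
    (fun x => (yon S).map ((D x.1 x.2).c ≫ η x.2)) (by
      rintro ⟨i, k⟩ ⟨i', k'⟩ W g g' e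
      dsimp only at e ⊢
      rw [← Functor.map_comp, ← Functor.map_comp]
      refine congrArg (yon S).map ?_
      have e1 : (g ≫ (D i k).m₂ ≫ (D i k).u) ≫ ζ i = (g' ≫ (D i' k').m₂ ≫ (D i' k').u) ≫ ζ i' := by
        simp only [Category.assoc, ← hρ1, ← reassoc_of% hσR, reassoc_of% e]
      have e2 : (g ≫ (D i k).m₂ ≫ (D i k).v) ≫ ζ k = (g' ≫ (D i' k').m₂ ≫ (D i' k').v) ≫ ζ k' := by
        simp only [Category.assoc, ← hρ2, ← reassoc_of% hσR, reassoc_of% e]
      by_cases hi : i = i'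
      · by_cases hk : k = k'
        · subst hi hk
          haveI := hσo i k
          haveI : Mono (σ i k) := Over.mono_of_mono_left _
          rw [(cancel_mono (σ i k)).1 e]
        · exact hidx _ _ _ _ e2 hk
      · exact hidx _ _ _ _ e1 hi)
  obtain ⟨φ, rfl⟩ := (yon S).map_surjective φ'
  replace hφ' : ∀ i k, σ i k ≫ φ = (D i k).c ≫ η k := fun i k =>
    (yon S).map_injective (by rw [Functor.map_comp]; exact hφ' (i, k))
  have hφν : φ ≫ νU = πR ≫ r₂ := by
    apply (yon S).map_injective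
    refine hom_ext_fppf (c := fun x : ι × ι => σ x.1 x.2) hσfl hσfp hσc fun x => ?_
    rw [← Functor.map_comp, ← Functor.map_comp]
    refine congrArg (yon S).map ?_
    rw [reassoc_of% hφ', hνU, reassoc_of% hσR, hρ2, reassoc_of% (D x.1 x.2).hc]
  -- restriction of a map to `P` to a piece
  have hpiece : ∀ {W : Over S} (m : W ⟶ P) {i k : ι} (a : W ⟶ N i) (v : W ⟶ T k), m ≫ s = a ≫ η i →
      m ≫ πR ≫ r₂ = v ≫ ζ k → ∃ g : W ⟶ (D i k).M, g ≫ σ i k = m ∧ g ≫ (D i k).m₁ = a ∧ g ≫ (D i k).m₂ ≫ (D i k).v = v := by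
    intro W m i k a v ha hv
    have e : (yon S).map (a ≫ ν i) ≫ t i = (yon S).map v ≫ t k := by
      rw [← hp i, ← hp k, ← Functor.map_comp_assoc, ← Functor.map_comp_assoc, Category.assoc, ← hνU,
        ← reassoc_of% ha, ← hv, sP.w]
      simp only [Functor.map_comp, Category.assoc, hR.w, πR]
    obtain ⟨q, hq⟩ := (yon S).map_surjective ((D i k).hQ.lift _ _ e)
    have hq1 : q ≫ (D i k).u = a ≫ ν i := (yon S).map_injective (by rw [Functor.map_comp, hq, (D i k).hQ.lift_fst])
    have hq2 : q ≫ (D i k).v = v := (yon S).map_injective (by rw [Functor.map_comp, hq, (D i k).hQ.lift_snd])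
    obtain ⟨g, hg1, hg2⟩ : ∃ g : W ⟶ (D i k).M, g ≫ (D i k).m₁ = a ∧ g ≫ (D i k).m₂ = q :=
      ⟨(D i k).sq.lift a q hq1.symm, (D i k).sq.lift_fst _ _ _, (D i k).sq.lift_snd _ _ _⟩
    refine ⟨g, ?_, hg1, by rw [reassoc_of% hg2, hq2]⟩
    apply sP.hom_ext
    · change (g ≫ σ i k) ≫ s = m ≫ s
      rw [Category.assoc, hσs, reassoc_of% hg1, ha]
    · change (g ≫ σ i k) ≫ πR = m ≫ πR
      rw [Category.assoc, hσR, reassoc_of% hg2]
      apply (yon S).map_injective
      apply hR.hom_ext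
      · simp only [← Functor.map_comp, Category.assoc, hρ1, reassoc_of% hq1, ← hνU, ← reassoc_of% ha, sP.w, s, πR]
      · simp only [← Functor.map_comp, Category.assoc, hρ2, reassoc_of% hq2, hv]
  -- identity and composition
  have hid : ∀ {W : Over S} (m : W ⟶ P), m ≫ πR ≫ r₁ = m ≫ πR ≫ r₂ → m ≫ φ = m ≫ s := by
    intro W m h
    apply (yon S).map_injective
    refine hom_ext_fppf (c := fun x : ι × ι => pullback.fst m (σ x.1 x.2)) (fun x => ?_) (fun x => ?_) (fun w => ?_)
      (fun x => ?_)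
    · haveI : IsOpenImmersion (pullback.fst m (σ x.1 x.2)).left := MorphismProperty.of_isPullback
        (isPullback_left (IsPullback.of_hasPullback m (σ x.1 x.2))).flip (hσo x.1 x.2)
      infer_instance
    · haveI : IsOpenImmersion (pullback.fst m (σ x.1 x.2)).left := MorphismProperty.of_isPullback
        (isPullback_left (IsPullback.of_hasPullback m (σ x.1 x.2))).flip (hσo x.1 x.2)
      infer_instance
    · obtain ⟨x, z, hz⟩ := hσc (m.left w)
      obtain ⟨w', hw', -⟩ := Scheme.Pullback.exists_preimage_pullback w z hz.symm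
      refine ⟨x, (isPullback_left (IsPullback.of_hasPullback m (σ x.1 x.2))).isoPullback.inv w', ?_⟩
      rw [← Scheme.Hom.comp_apply, IsPullback.isoPullback_inv_fst]
      exact hw'
    · obtain ⟨i, k⟩ := x
      rw [← Functor.map_comp, ← Functor.map_comp]
      refine congrArg (yon S).map ?_
      generalize hg : pullback.snd m (σ i k) = g
      have e : pullback.fst m (σ i k) ≫ m = g ≫ σ i k := by rw [← hg]; exact pullback.condition
      have h' : (g ≫ (D i k).m₂ ≫ (D i k).u) ≫ ζ i = (g ≫ (D i k).m₂ ≫ (D i k).v) ≫ ζ k := by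
        simp only [Category.assoc, ← hρ1, ← hρ2, ← reassoc_of% hσR, ← reassoc_of% e, h]
      rw [reassoc_of% e, reassoc_of% e, hφ', hσs]
      by_cases hik : i = k
      · subst hik
        haveI := hU.mono i
        simp only [← Category.assoc]
        congr 1
        exact Trans.refl_eq hfac hY hX hL (D i i) g ((cancel_mono (ζ i)).1 h')
      · exact hidx _ _ _ _ h' hik
  have hcomp : ∀ {W : Over S} (m m' m'' : W ⟶ P), m ≫ φ = m' ≫ s → m'' ≫ s = m ≫ s →
      m'' ≫ πR ≫ r₂ = m' ≫ πR ≫ r₂ → m'' ≫ φ = m' ≫ φ := by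
    intro W m m' m'' e₁ e₂ e₃
    apply (yon S).map_injective
    refine hom_ext_fppf (c := fun x : (ι × ι) × (ι × ι) =>
      pullback.fst (pullback.fst m (σ x.1.1 x.1.2) ≫ m') (σ x.2.1 x.2.2) ≫ pullback.fst m (σ x.1.1 x.1.2))
      (fun x => ?_) (fun x => ?_) (fun w => ?_) (fun x => ?_)
    · haveI : IsOpenImmersion (pullback.fst m (σ x.1.1 x.1.2)).left := MorphismProperty.of_isPullback
        (isPullback_left (IsPullback.of_hasPullback m (σ x.1.1 x.1.2))).flip (hσo _ _)
      haveI : IsOpenImmersion (pullback.fst (pullback.fst m (σ x.1.1 x.1.2) ≫ m') (σ x.2.1 x.2.2)).left :=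
        MorphismProperty.of_isPullback (isPullback_left (IsPullback.of_hasPullback _ (σ x.2.1 x.2.2))).flip (hσo _ _)
      rw [Over.comp_left]; infer_instance
    · haveI : IsOpenImmersion (pullback.fst m (σ x.1.1 x.1.2)).left := MorphismProperty.of_isPullback
        (isPullback_left (IsPullback.of_hasPullback m (σ x.1.1 x.1.2))).flip (hσo _ _)
      haveI : IsOpenImmersion (pullback.fst (pullback.fst m (σ x.1.1 x.1.2) ≫ m') (σ x.2.1 x.2.2)).left :=
        MorphismProperty.of_isPullback (isPullback_left (IsPullback.of_hasPullback _ (σ x.2.1 x.2.2))).flip (hσo _ _)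
      rw [Over.comp_left]; infer_instance
    · obtain ⟨x, z, hz⟩ := hσc (m.left w)
      obtain ⟨w₁, hw₁, -⟩ := Scheme.Pullback.exists_preimage_pullback w z hz.symm
      have s1 := isPullback_left (IsPullback.of_hasPullback m (σ x.1 x.2))
      obtain ⟨y, z', hz'⟩ := hσc ((pullback.fst m (σ x.1 x.2) ≫ m').left (s1.isoPullback.inv w₁))
      have s2 := isPullback_left (IsPullback.of_hasPullback (pullback.fst m (σ x.1 x.2) ≫ m') (σ y.1 y.2))
      obtain ⟨w₂, hw₂, -⟩ := Scheme.Pullback.exists_preimage_pullback (s1.isoPullback.inv w₁) z' hz'.symm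
      refine ⟨(x, y), s2.isoPullback.inv w₂, ?_⟩
      have h2 : (pullback.fst (pullback.fst m (σ x.1 x.2) ≫ m') (σ y.1 y.2)).left (s2.isoPullback.inv w₂) =
          s1.isoPullback.inv w₁ := by
        rw [← Scheme.Hom.comp_apply, IsPullback.isoPullback_inv_fst]; exact hw₂
      rw [Over.comp_left, Scheme.Hom.comp_apply, h2, ← Scheme.Hom.comp_apply, IsPullback.isoPullback_inv_fst]
      exact hw₁
    · obtain ⟨⟨i, j⟩, j', l⟩ := x
      rw [← Functor.map_comp, ← Functor.map_comp]
      refine congrArg (yon S).map ?_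
      dsimp only
      generalize hc : pullback.fst (pullback.fst m (σ i j) ≫ m') (σ j' l) ≫ pullback.fst m (σ i j) = c
      generalize hg₁ : pullback.fst (pullback.fst m (σ i j) ≫ m') (σ j' l) ≫ pullback.snd m (σ i j) = g₁
      generalize hg₂ : pullback.snd (pullback.fst m (σ i j) ≫ m') (σ j' l) = g₂
      have hm : c ≫ m = g₁ ≫ σ i j := by rw [← hc, ← hg₁, Category.assoc, Category.assoc, pullback.condition]
      have hm' : c ≫ m' = g₂ ≫ σ j' l := by rw [← hc, ← hg₂, Category.assoc, pullback.condition]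
      obtain ⟨g₃, hg31, hg32, hg33⟩ := hpiece (c ≫ m'') (g₁ ≫ (D i j).m₁) (g₂ ≫ (D j' l).m₂ ≫ (D j' l).v)
        (by rw [Category.assoc, e₂, reassoc_of% hm, hσs, Category.assoc])
        (by simp only [Category.assoc, ← hρ2, ← reassoc_of% hσR, ← reassoc_of% hm', e₃])
      have hj : (g₁ ≫ (D i j).c) ≫ η j = (g₂ ≫ (D j' l).m₁) ≫ η j' := by
        simp only [Category.assoc, ← hφ', ← hσs, ← reassoc_of% hm, ← reassoc_of% hm', e₁]
      rw [← reassoc_of% hg31, reassoc_of% hm', hφ', hφ']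
      by_cases hjj : j = j'
      · subst hjj
        haveI := hN.mono j
        rw [← Category.assoc, ← Category.assoc]
        congr 1
        exact Trans.cocycle hfac hY hX hL hte (D i j) (D j l) (D i l) g₁ g₂ g₃ ((cancel_mono (η j)).1 hj) hg32 hg33
      · haveI := hN.disjoint j j' _ _ _ hj hjj
        exact Over.OverMorphism.ext (isInitialOfIsEmpty.hom_ext _ _)
  -- maps into `P`
  have hmkP : ∀ {W : Over S} (a : W ⟶ Nt) (v : W ⟶ U), (yon S).map (a ≫ νU) ≫ p = (yon S).map v ≫ p →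
      ∃ m : W ⟶ P, m ≫ s = a ∧ m ≫ πR ≫ r₂ = v := by
    intro W a v h
    obtain ⟨r, hr⟩ := (yon S).map_surjective (hR.lift _ _ h)
    refine ⟨sP.lift a r ((yon S).map_injective ?_), sP.lift_fst _ _ _, ?_⟩
    · rw [(yon S).map_comp r r₁, hr, hR.lift_fst]
    · rw [show sP.lift a r _ ≫ πR ≫ r₂ = (sP.lift a r _ ≫ πR) ≫ r₂ from (Category.assoc _ _ _).symm,
        show sP.lift a r _ ≫ πR = r from sP.lift_snd _ _ _]
      exact (yon S).map_injective (by rw [Functor.map_comp, hr, hR.lift_snd])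
  have hinj : ∀ {W : Over S} (m m' : W ⟶ P), m ≫ s = m' ≫ s → m ≫ πR ≫ r₂ = m' ≫ πR ≫ r₂ → m = m' := by
    intro W m m' h1 h2
    refine sP.hom_ext h1 ?_
    apply (yon S).map_injective
    apply hR.hom_ext
    · simp only [← Functor.map_comp, Category.assoc, πR]
      rw [← sP.w, reassoc_of% h1]
    · simp only [← Functor.map_comp, Category.assoc]
      exact congrArg (yon S).map h2
  have hpP : ∀ {W : Over S} (m : W ⟶ P), (yon S).map ((m ≫ s) ≫ νU) ≫ p = (yon S).map (m ≫ πR ≫ r₂) ≫ p := by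
    intro W m
    simp only [s, πR, Category.assoc, sP.w]
    simp only [Functor.map_comp, Category.assoc, hR.w]
  have hsymm : ∀ {W : Over S} (m : W ⟶ P), ∃ m' : W ⟶ P, m' ≫ s = m ≫ φ ∧ m' ≫ φ = m ≫ s := by
    intro W m
    obtain ⟨m', hm'1, hm'2⟩ := hmkP (m ≫ φ) ((m ≫ s) ≫ νU) (by rw [hpP, Category.assoc, hφν])
    obtain ⟨δ, hδ1, hδ2⟩ := hmkP (m ≫ s) ((m ≫ s) ≫ νU) rfl
    refine ⟨m', hm'1, ?_⟩
    have h1 : δ ≫ φ = δ ≫ s := hid δ (by
      rw [hδ2]
      simp only [s, πR, Category.assoc, ← sP.w] at hδ1 ⊢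
      rw [reassoc_of% hδ1])
    rw [← hcomp m m' δ hm'1.symm hδ1 (by rw [hδ2, hm'2]), h1, hδ1]
  haveI hr₁e : Etale r₁.left := hpe.2 _ _ _ hR.flip
  have hse : Etale s.left := MorphismProperty.of_isPullback (isPullback_left sP).flip hr₁e
  have hφe : Etale φ.left := by
    obtain ⟨τ, hτ1, hτ2⟩ := hsymm (𝟙 P)
    simp only [Category.id_comp] at hτ1 hτ2
    have hττ : τ ≫ τ = 𝟙 P := by
      apply hinj
      · rw [Category.assoc, hτ1, hτ2, Category.id_comp]
      · rw [← hφν, Category.assoc, reassoc_of% hτ2, reassoc_of% hτ1, Category.id_comp]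
    haveI : IsIso τ.left := ⟨τ.left, by rw [← Over.comp_left, hττ]; rfl, by rw [← Over.comp_left, hττ]; rfl⟩
    rw [← hτ1, Over.comp_left]
    haveI := hse
    infer_instance
  have hrel : IsEtaleEqvRel s φ := by
    refine { injective := fun W m m' h1 h2 => hinj m m' h2 ?_, equivalence := fun W => ?_, etale_left := hse, etale_right := hφe }
    · rw [← hφν, reassoc_of% h1]
    · refine ⟨fun a => ?_, fun {a b} ⟨m, hm1, hm2⟩ => ?_, fun {a b c} ⟨m, hm1, hm2⟩ ⟨m', hm'1, hm'2⟩ => ?_⟩
      · obtain ⟨δ, hδ1, hδ2⟩ := hmkP a (a ≫ νU) rfl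
        refine ⟨δ, ?_, hδ1⟩
        rw [hid δ (by
          rw [hδ2, ← hδ1]
          simp only [s, πR, Category.assoc, sP.w]), hδ1]
      · obtain ⟨m', h1, h2⟩ := hsymm m
        exact ⟨m', h2.trans hm2, h1.trans hm1⟩
      · -- `a = φ m`, `b = s m = φ m'`, `c = s m'`
        obtain ⟨m'', h1, h2⟩ := hmkP c (a ≫ νU) (by
          rw [← hm'2, hpP, ← hφν, ← Category.assoc, hm'1, ← hm2, hpP, ← hφν, ← Category.assoc, hm1])
        exact ⟨m'', by rw [hcomp m' m m'' (hm'1.trans hm2.symm) (h1.trans hm'2.symm)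
          (by rw [h2, ← hm1, Category.assoc, hφν]), hm1], h1⟩
  obtain ⟨π, hπ⟩ : ∃ π : (yon S).obj Nt ⟶ QuotSh.quot Scheme.fppfPrecoverage s φ, IsPresentation s φ π :=
    ⟨_, isPresentation_quot hrel⟩
  have hXa := isAlgSpace_quot hrel
  haveI : Epi π := epi_of_etale_surjective hπ.etale hπ.surjective
  obtain ⟨νX, hνX⟩ := exists_desc_of_epi π hπ.isPullback ((yon S).map νU ≫ p) (by
    have := hpP (𝟙 P)
    simp only [Category.id_comp] at this
    rw [← Functor.map_comp_assoc, ← Functor.map_comp_assoc, this, hφν])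
  -- the defining square is cartesian
  have hbase : IsPullback π ((yon S).map νU) νX p := by
    have sC := IsPullback.of_hasPullback νX p
    obtain ⟨κ, hκ1, hκ2⟩ : ∃ κ : (yon S).obj Nt ⟶ pullback νX p, κ ≫ pullback.fst _ _ = π ∧
        κ ≫ pullback.snd _ _ = (yon S).map νU :=
      ⟨sC.lift π ((yon S).map νU) hνX, sC.lift_fst _ _ _, sC.lift_snd _ _ _⟩
    haveI : Mono κ := ⟨fun {Z} a b h => by
      refine hom_ext_of_yon fun W g => ?_
      obtain ⟨a', ha'⟩ := (yon S).map_surjective (g ≫ a)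
      obtain ⟨b', hb'⟩ := (yon S).map_surjective (g ≫ b)
      have e : (yon S).map a' ≫ π = (yon S).map b' ≫ π := by
        rw [← hκ1, ha', hb', Category.assoc, Category.assoc, reassoc_of% h]
      have e' : a' ≫ νU = b' ≫ νU := (yon S).map_injective (by
        rw [Functor.map_comp, Functor.map_comp, ← hκ2, ha', hb', Category.assoc, Category.assoc, reassoc_of% h])
      obtain ⟨m, hm⟩ := (yon S).map_surjective (hπ.isPullback.lift _ _ e)
      have hm1 : m ≫ φ = a' := (yon S).map_injective (by rw [Functor.map_comp, hm, hπ.isPullback.lift_fst])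
      have hm2 : m ≫ s = b' := (yon S).map_injective (by rw [Functor.map_comp, hm, hπ.isPullback.lift_snd])
      have : a' = b' := by
        rw [← hm1, ← hm2]
        refine hid m ?_
        rw [← hφν, reassoc_of% hm1, e', ← hm2]
        simp only [s, πR, Category.assoc, sP.w]
      rw [← ha', ← hb', this]⟩
    haveI : Epi κ := by
      have sA := IsPullback.of_hasPullback π (pullback.fst νX p)
      haveI : Epi (pullback.snd π (pullback.fst νX p)) := ShfQuotLib.epi_snd_of_isPullback sA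
      have fac : ∃ l : pullback π (pullback.fst νX p) ⟶ (yon S).obj Nt, l ≫ κ = pullback.snd π (pullback.fst νX p) := by
        obtain ⟨r, hr1, hr2⟩ : ∃ r : pullback π (pullback.fst νX p) ⟶ (yon S).obj R,
            r ≫ (yon S).map r₁ = pullback.fst π (pullback.fst νX p) ≫ (yon S).map νU ∧
            r ≫ (yon S).map r₂ = pullback.snd π (pullback.fst νX p) ≫ pullback.snd νX p :=
          ⟨hR.lift _ _ (by
            rw [Category.assoc, Category.assoc, ← hνX, ← sC.w, reassoc_of% sA.w]),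
            hR.lift_fst _ _ _, hR.lift_snd _ _ _⟩
        have sP' := isPullback_yon_map sP
        obtain ⟨m, hm1, hm2⟩ : ∃ m : pullback π (pullback.fst νX p) ⟶ (yon S).obj P,
            m ≫ (yon S).map s = pullback.fst π (pullback.fst νX p) ∧ m ≫ (yon S).map πR = r :=
          ⟨sP'.lift _ r hr1.symm, sP'.lift_fst _ _ _, sP'.lift_snd _ _ _⟩
        refine ⟨m ≫ (yon S).map φ, sC.hom_ext ?_ ?_⟩
        · simp only [Category.assoc, hκ1, hπ.isPullback.w]
          rw [reassoc_of% hm1, sA.w]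
        · simp only [Category.assoc, hκ2, ← Functor.map_comp, hφν]
          rw [Functor.map_comp, reassoc_of% hm2, hr2]
      obtain ⟨l, hl⟩ := fac
      haveI : Epi (l ≫ κ) := by rw [hl]; infer_instance
      exact epi_of_epi l κ
    haveI : IsIso κ := isIso_of_mono_of_epi κ
    exact IsPullback.of_iso sC (asIso κ).symm (Iso.refl _) (Iso.refl _) (Iso.refl _)
      (by simp [← hκ1]) (by simp [← hκ2]) (by simp) (by simp)
  have hint : IsIntegralMor νX := by
    haveI := Groth.Agent.FpqcDesc.isIntegralHom_descends.{u}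
    exact (isIntegralMor_iff hXa hX).2 (repWith_of_fpqc_affine
      (fun k (hk : IsIntegralHom k) => (inferInstance : IsAffineHom k)) hXa hX (fun _ : PUnit.{u+1} => hbase)
      (isFpqcCover_of_chart hX hpe hpsR) fun _ => repWith_yon_map hνUint)
  have hsqi : ∀ i, IsPullback ((yon S).map (η i) ≫ π) ((yon S).map (ν i)) νX (t i) := fun i => by
    have := (isPullback_yon_map (hNsq i).flip).paste_horiz hbase
    rwa [hp] at this
  -- the map from `Y`
  have hWi : ∀ i, IsAlgSpace (pullback f (t i)) := fun i =>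
    isAlgSpace_pullback hX.diag hY (IsAlgSpace.yon_obj (T i)) f (t i)
  choose A a hae has using fun i => (hWi i).atlas
  choose α hα using fun i => (yon S).map_surjective (a i ≫ f' i)
  have hqe : ∀ i, RepWith @Etale (a i ≫ pullback.fst f (t i)) := fun i =>
    repWith_comp (hae i) (repWith_of_isPullback (IsPullback.of_hasPullback f (t i)).flip (hte i))
  have hqs : ∀ y : Points Y, ∃ i, y ∈ Set.range (Points.map (a i ≫ pullback.fst f (t i))) := fun y => by
    obtain ⟨i, u, hu⟩ := hts (Points.map f y)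
    obtain ⟨u, rfl⟩ := (Points.schemeHomeo (T i)).surjective u
    obtain ⟨w, hw, -⟩ := points_exists_of_isPullback (IsPullback.of_hasPullback f (t i)) y
      (Points.schemeHomeo (T i) u) hu.symm
    obtain ⟨z, hz⟩ := surjective_map_of_repWith (has i) w
    exact ⟨i, z, by rw [Points.map_comp, hz, hw]⟩
  obtain ⟨fX, hfX, -⟩ := existsUnique_desc_family A (fun i => a i ≫ pullback.fst f (t i)) hqe hqs
    (fun i => (yon S).map (α i ≫ η i) ≫ π) (by
      intro i k W g g' e
      have h1 : IsImg f' i ((yon S).map g ≫ a i ≫ pullback.fst f (t i)) (g ≫ α i) :=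
        IsImg.comp ⟨a i, rfl, (hα i).symm⟩ g
      have h2 : IsImg f' k ((yon S).map g ≫ a i ≫ pullback.fst f (t i)) (g' ≫ α k) := by
        rw [e]; exact IsImg.comp ⟨a k, rfl, (hα k).symm⟩ g'
      have e' : (yon S).map ((g ≫ α i) ≫ ν i) ≫ t i = (yon S).map ((g' ≫ α k) ≫ ν k) ≫ t k := by
        rw [← IsImg.over hfac h1, ← IsImg.over hfac h2]
      obtain ⟨q, hq⟩ := (yon S).map_surjective ((D i k).hQ.lift _ _ e')
      have hq1 : q ≫ (D i k).u = (g ≫ α i) ≫ ν i :=
        (yon S).map_injective (by rw [Functor.map_comp, hq, (D i k).hQ.lift_fst])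
      have hq2 : q ≫ (D i k).v = (g' ≫ α k) ≫ ν k :=
        (yon S).map_injective (by rw [Functor.map_comp, hq, (D i k).hQ.lift_snd])
      obtain ⟨m, hm1, hm2⟩ : ∃ m : W ⟶ (D i k).M, m ≫ (D i k).m₁ = g ≫ α i ∧ m ≫ (D i k).m₂ = q :=
        ⟨(D i k).sq.lift _ q hq1.symm, (D i k).sq.lift_fst _ _ _, (D i k).sq.lift_snd _ _ _⟩
      have hc : m ≫ (D i k).c = g' ≫ α k := by
        refine IsImg.unique hfac ((D i k).compat W m _ (by rw [hm1]; exact h1)) h2 ?_
        rw [Category.assoc, (D i k).hc, reassoc_of% hm2, hq2]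
      have e1 : g ≫ α i ≫ η i = m ≫ σ i k ≫ s := by rw [hσs, reassoc_of% hm1]
      have e2 : g' ≫ α k ≫ η k = m ≫ σ i k ≫ φ := by rw [hφ', reassoc_of% hc]
      rw [← Functor.map_comp_assoc, ← Functor.map_comp_assoc, e1, e2]
      simp only [Functor.map_comp, Category.assoc, hπ.isPullback.w])
  have hfXν : fX ≫ νX = f := by
    refine hom_ext_family A (fun i => a i ≫ pullback.fst f (t i)) hqe hqs fun i => ?_
    rw [← Category.assoc, hfX i, Category.assoc, hνX, Category.assoc, pullback.condition, ← reassoc_of% (hfac i),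
      ← reassoc_of% (hα i), ← Functor.map_comp_assoc, ← hp i, ← Functor.map_comp_assoc, ← Functor.map_comp_assoc]
    congr 2
    simp only [Category.assoc, hνU]
  refine ⟨_, νX, fX, hXa, hfXν, hint, ι, T, t, hte, hts, fun i => ⟨hTa i,
    ⟨pullback f (t i), pullback.fst f (t i), pullback.snd f (t i), N i, ν i, (yon S).map (η i) ≫ π, f' i,
      IsPullback.of_hasPullback f (t i), hsqi i, hfac i, ?_⟩, hA i⟩⟩
  haveI : Epi (a i) := epi_of_etale_surjective (hae i) (has i)
  have hf1 : a i ≫ pullback.fst f (t i) ≫ fX = (yon S).map (α i ≫ η i) ≫ π := by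
    rw [← hfX i, Category.assoc]
  rw [← cancel_epi (a i), hf1, ← reassoc_of% hα, Functor.map_comp, Category.assoc]

theorem exists_relNormalization {Y X : Sp S} (hY : IsAlgSpace Y) (hX : IsAlgSpace X) (f : Y ⟶ X)
    (hqc : IsQuasiCompactMor f) (hqs : IsQuasiSeparatedMor f) :
    ∃ (X' : Sp S) (ν : X' ⟶ X) (f' : Y ⟶ X'), IsAlgSpace X' ∧ LocNorm f ν f' := by
  obtain ⟨ι, T, t, hTa, hte, hts⟩ := exists_affine_family hX
  choose N ν f' hL hA using fun i => exists_locNorm_affine (pullback.snd f (t i)) (hTa i)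
    (isAlgSpace_pullback hX.diag hY (IsAlgSpace.yon_obj (T i)) f (t i))
    (isQuasiCompactMor_baseChange (IsPullback.of_hasPullback f (t i)) hqc)
    (isQuasiSeparatedMor_baseChange (IsPullback.of_hasPullback f (t i)) hqs)
  exact exists_glue (fun i => (hL i).1) hY hX hTa hte hts hL hA

end Groth.Agent.RelNorm
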