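import Groth.Agent.RelNorm.Affine
import Groth.Agent.RelNorm.Descent
import Groth.Agent.ASp.FppfGlue
import Groth.Agent.ASp.YonExt

/-!
Normalizations glue etale locally on the base and are stable under smooth base change.
-/

set_option backward.isDefEq.respectTransparency false
set_option backward.isDefEq.respectTransparency.types false

universe u

open CategoryTheory CategoryTheory.Limits AlgebraicGeometry Opposite

namespace Groth.Agent.RelNorm

open _root_.AlgSp Groth.Agent.ASp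

variable {S : Scheme.{u}}

theorem isIntegralMor_baseChange {X Y X' Y' : Sp S} {f : X ⟶ Y} {g : Y' ⟶ Y} {q : X' ⟶ X} {p : X' ⟶ Y'}
    (sq : IsPullback q p f g) (h : IsIntegralMor f) : IsIntegralMor p := by
  intro Z hZ g₀
  obtain ⟨W, i, fst, hW, hWa⟩ := h hZ (g₀ ≫ g)
  refine ⟨W, i, sq.lift fst ((yon S).map i ≫ g₀) (by rw [hW.w, Category.assoc]),
    IsPullback.of_right ?_ (sq.lift_snd _ _ _) sq, hWa⟩
  rw [sq.lift_fst]
  exact hW

/-- Pullback data of a factorization `f' ≫ ν = f` along a map from a scheme. -/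
structure Data {Y X X' : Sp S} (f : Y ⟶ X) (ν : X' ⟶ X) (f' : Y ⟶ X') {T : Over S}
    (t : (yon S).obj T ⟶ X) where
  W : Sp S
  gW : W ⟶ Y
  fW : W ⟶ (yon S).obj T
  N : Over S
  νT : N ⟶ T
  gN : (yon S).obj N ⟶ X'
  fW' : W ⟶ (yon S).obj N
  sqW : IsPullback gW fW f t
  sqN : IsPullback gN ((yon S).map νT) ν t
  fac : fW' ≫ (yon S).map νT = fW
  comm : fW' ≫ gN = gW ≫ f'

variable {Y X X' : Sp S} {f : Y ⟶ X} {ν : X' ⟶ X} {f' : Y ⟶ X'}

theorem exists_data (hν : Representable ν) (hfac : f' ≫ ν = f) {T : Over S} (t : (yon S).obj T ⟶ X) :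
    Nonempty (Data f ν f' t) := by
  obtain ⟨N, fst, νT, hN⟩ : ∃ (N : Over S) (fst : (yon S).obj N ⟶ X') (νT : N ⟶ T),
      IsPullback fst ((yon S).map νT) ν t := ⟨_, _, _, hν.isPullback t⟩
  have hW := IsPullback.of_hasPullback f t
  exact ⟨⟨_, _, _, N, νT, fst, hN.lift (pullback.fst f t ≫ f') (pullback.snd f t)
    (by rw [Category.assoc, hfac]; exact hW.w), hW, hN, hN.lift_snd _ _ _, hN.lift_fst _ _ _⟩⟩

/-- The factorization is the affine normalization over `t`. -/
def NormAt (f : Y ⟶ X) (ν : X' ⟶ X) (f' : Y ⟶ X') {T : Over S} (t : (yon S).obj T ⟶ X) : Prop :=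
  IsAffine T.left ∧ ∃ D : Data f ν f' t, AffNorm D.fW D.νT D.fW'

/-- Smooth base change of an affine normalization. -/
theorem NormAt.aff {T : Over S} {t : (yon S).obj T ⟶ X} (h : NormAt f ν f' t) {T' : Over S}
    (hT' : IsAffine T'.left) (j : T' ⟶ T) (hj : Smooth j.left) (D' : Data f ν f' ((yon S).map j ≫ t)) :
    AffNorm D'.fW D'.νT D'.fW' := by
  obtain ⟨hT, D, hD⟩ := h
  obtain ⟨gW, hgW1, hgW2⟩ : ∃ gW : D'.W ⟶ D.W, gW ≫ D.gW = D'.gW ∧ gW ≫ D.fW = D'.fW ≫ (yon S).map j :=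
    ⟨D.sqW.lift D'.gW (D'.fW ≫ (yon S).map j) (by rw [Category.assoc]; exact D'.sqW.w),
      D.sqW.lift_fst _ _ _, D.sqW.lift_snd _ _ _⟩
  have sqW : IsPullback gW D'.fW D.fW ((yon S).map j) := by
    refine IsPullback.of_right ?_ hgW2 D.sqW
    rw [hgW1]; exact D'.sqW
  obtain ⟨gN, hgN⟩ := (yon S).map_surjective (D.sqN.lift D'.gN ((yon S).map D'.νT ≫ (yon S).map j)
    (by rw [Category.assoc]; exact D'.sqN.w))
  have hgN2 : (yon S).map gN ≫ (yon S).map D.νT = (yon S).map D'.νT ≫ (yon S).map j := by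
    rw [hgN, D.sqN.lift_snd]
  have sqN : IsPullback gN D'.νT D.νT j := by
    refine isPullback_of_yon_map (IsPullback.of_right ?_ hgN2 D.sqN)
    rw [hgN, D.sqN.lift_fst]; exact D'.sqN
  refine hD.baseChange hT hT' j hj sqW sqN D'.fW' D'.fac ?_
  apply D.sqN.hom_ext
  · rw [Category.assoc, Category.assoc, D.comm, hgN, D.sqN.lift_fst, D'.comm, ← Category.assoc, hgW1]
  · rw [Category.assoc, Category.assoc, D.fac, hgN2, hgW2, ← Category.assoc, D'.fac]

theorem NormAt.comp {T : Over S} {t : (yon S).obj T ⟶ X} (h : NormAt f ν f' t) (hν : Representable ν)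
    (hfac : f' ≫ ν = f) {T' : Over S} (hT' : IsAffine T'.left) (j : T' ⟶ T) (hj : Smooth j.left) :
    NormAt f ν f' ((yon S).map j ≫ t) :=
  ⟨hT', (exists_data hν hfac _).some, h.aff hT' j hj _⟩

/-- The local universal property. -/
theorem NormAt.key {T : Over S} {t : (yon S).obj T ⟶ X} (h : NormAt f ν f' t) (D : Data f ν f' t)
    (hX : IsAlgSpace X) {Z : Sp S} (hZ : IsAlgSpace Z) (π : Z ⟶ X) (g : Y ⟶ Z) (hπ : IsIntegralMor π)
    (hg : g ≫ π = f) :
    ∃! k : (yon S).obj D.N ⟶ Z, D.fW' ≫ k = D.gW ≫ g ∧ k ≫ π = D.gN ≫ ν := by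
  have hT := h.1
  have h' := NormAt.aff h hT (𝟙 T) (show Smooth (𝟙 T.left) from inferInstance)
    ⟨D.W, D.gW, D.fW, D.N, D.νT, D.gN, D.fW', by simpa using D.sqW, by simpa using D.sqN, D.fac, D.comm⟩
  obtain ⟨-, -, huniv⟩ := h'.isRelNormalization hT D.fac
  have sq := IsPullback.of_hasPullback π t
  have hZT : IsAlgSpace (pullback π t) := isAlgSpace_pullback hX.diag hZ (IsAlgSpace.yon_obj T) π t
  obtain ⟨k, ⟨hk1, hk2⟩, hku⟩ := huniv hZT (pullback.snd π t)
    (sq.lift (D.gW ≫ g) D.fW (by rw [Category.assoc, hg]; exact D.sqW.w))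
    (isIntegralMor_baseChange sq hπ) (sq.lift_snd _ _ _)
  refine ⟨k ≫ pullback.fst π t, ⟨?_, ?_⟩, fun k' hk' => ?_⟩
  · rw [← Category.assoc, hk1, sq.lift_fst]
  · rw [Category.assoc, sq.w, ← Category.assoc, hk2, D.sqN.w]
  · have e := hku (sq.lift k' ((yon S).map D.νT) (by rw [hk'.2, D.sqN.w])) ⟨?_, sq.lift_snd _ _ _⟩
    · rw [← e, sq.lift_fst]
    · apply sq.hom_ext
      · rw [Category.assoc, sq.lift_fst, sq.lift_fst, hk'.1]
      · rw [Category.assoc, sq.lift_snd, sq.lift_snd, D.fac]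

/-- Etale locally on the base, the factorization is the affine normalization. -/
def LocNorm (f : Y ⟶ X) (ν : X' ⟶ X) (f' : Y ⟶ X') : Prop :=
  f' ≫ ν = f ∧ IsIntegralMor ν ∧
    ∃ (ι : Type u) (T : ι → Over S) (t : ∀ i, (yon S).obj (T i) ⟶ X), (∀ i, RepWith @Etale (t i)) ∧
      (∀ x : Points X, ∃ i, x ∈ Set.range (Points.map (t i))) ∧ ∀ i, NormAt f ν f' (t i)

theorem LocNorm.existsUnique (h : LocNorm f ν f') (hX : IsAlgSpace X) (hX' : IsAlgSpace X')
    {Z : Sp S} (hZ : IsAlgSpace Z) (π : Z ⟶ X) (g : Y ⟶ Z) (hπ : IsIntegralMor π) (hg : g ≫ π = f) :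
    ∃! k : X' ⟶ Z, f' ≫ k = g ∧ k ≫ π = ν := by
  obtain ⟨hfac, hint, ι, T, t, hte, hts, hN⟩ := h
  have hνr := ((isIntegralMor_iff hX' hX).1 hint).1
  have D : ∀ i, Data f ν f' (t i) := fun i => (exists_data hνr hfac (t i)).some
  choose k hk hku using fun i => (hN i).key (D i) hX hZ π g hπ hg
  have hqe : ∀ i, RepWith @Etale (D i).gN := fun i => repWith_of_isPullback (D i).sqN.flip (hte i)
  have hqs : ∀ x : Points X', ∃ i, x ∈ Set.range (Points.map (D i).gN) := fun x => by
    obtain ⟨i, u, hu⟩ := hts (Points.map ν x)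
    obtain ⟨u, rfl⟩ := (Points.schemeHomeo (T i)).surjective u
    obtain ⟨w, hw, -⟩ := points_exists_of_isPullback (D i).sqN x (Points.schemeHomeo (T i) u) hu.symm
    exact ⟨i, w, hw⟩
  -- agreement on overlaps
  have hagree : ∀ (i j : ι) (P : Over S) (a : P ⟶ (D i).N) (b : P ⟶ (D j).N),
      (yon S).map a ≫ (D i).gN = (yon S).map b ≫ (D j).gN → (yon S).map a ≫ k i = (yon S).map b ≫ k j := by
    intro i j P a b e
    obtain ⟨Q, u, v, hQ⟩ := exists_isPullback_yon (hte i).1 (t j)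
    obtain ⟨w, hw⟩ := (yon S).map_surjective
      (hQ.lift ((yon S).map a ≫ (yon S).map (D i).νT) ((yon S).map b ≫ (yon S).map (D j).νT) (by
        rw [Category.assoc, Category.assoc, ← (D i).sqN.w, ← (D j).sqN.w, reassoc_of% e]))
    have hwu : (yon S).map w ≫ (yon S).map u = (yon S).map a ≫ (yon S).map (D i).νT := by rw [hw, hQ.lift_fst]
    have hwv : (yon S).map w ≫ (yon S).map v = (yon S).map b ≫ (yon S).map (D j).νT := by rw [hw, hQ.lift_snd]
    haveI hue : Etale u.left := (hte j).2 _ _ _ hQ.flip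
    haveI hve : Etale v.left := (hte i).2 _ _ _ hQ
    let V : Q.left.affineOpens → Over S := fun U => Over.mk (U.1.ι ≫ Q.hom)
    let vι : ∀ U, V U ⟶ Q := fun U => Over.homMk U.1.ι rfl
    refine hom_ext_fppf (c := fun U => pullback.fst w (vι U)) (fun U => ?_) (fun U => ?_) (fun x => ?_)
      (fun U => ?_)
    · haveI : IsOpenImmersion (pullback.fst w (vι U)).left := MorphismProperty.of_isPullback
        (isPullback_left (IsPullback.of_hasPullback w (vι U))).flip (inferInstanceAs (IsOpenImmersion U.1.ι))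
      infer_instance
    · haveI : IsOpenImmersion (pullback.fst w (vι U)).left := MorphismProperty.of_isPullback
        (isPullback_left (IsPullback.of_hasPullback w (vι U))).flip (inferInstanceAs (IsOpenImmersion U.1.ι))
      infer_instance
    · obtain ⟨U, hU, hxU, -⟩ := exists_isAffineOpen_mem_and_subset (x := w.left x) (U := (⊤ : Q.left.Opens))
        (by simp)
      obtain ⟨t₁, ht₁, -⟩ := Scheme.Pullback.exists_preimage_pullback (f := w.left) (g := (vι ⟨U, hU⟩).left) x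
        (⟨w.left x, hxU⟩ : (V ⟨U, hU⟩).left) rfl
      refine ⟨⟨U, hU⟩, (isPullback_left (IsPullback.of_hasPullback w (vι ⟨U, hU⟩))).isoPullback.inv t₁, ?_⟩
      rw [← Scheme.Hom.comp_apply, IsPullback.isoPullback_inv_fst]
      exact ht₁
    · -- both restrictions are the canonical map over `V U`
      have hju : Etale ((vι U ≫ u).left) := by
        rw [Over.comp_left]; haveI : IsOpenImmersion (vι U).left := inferInstanceAs (IsOpenImmersion U.1.ι)
        infer_instance
      have hN' := (hN i).comp hνr hfac (T' := V U) U.2 (vι U ≫ u) (haveI := hju; inferInstance)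
      obtain ⟨D'⟩ := exists_data (f := f) (ν := ν) (f' := f') hνr hfac ((yon S).map (vι U ≫ u) ≫ t i)
      have htj : (yon S).map (vι U ≫ u) ≫ t i = (yon S).map (vι U ≫ v) ≫ t j := by
        simp only [Functor.map_comp, Category.assoc, hQ.w]
      -- the two comparison maps
      obtain ⟨a', ha'1, ha'2⟩ : ∃ a' : (yon S).obj D'.N ⟶ (yon S).obj (D i).N, a' ≫ (D i).gN = D'.gN ∧
          a' ≫ (yon S).map (D i).νT = (yon S).map D'.νT ≫ (yon S).map (vι U ≫ u) :=
        ⟨(D i).sqN.lift D'.gN ((yon S).map D'.νT ≫ (yon S).map (vι U ≫ u))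
          (by rw [Category.assoc]; exact D'.sqN.w), (D i).sqN.lift_fst _ _ _, (D i).sqN.lift_snd _ _ _⟩
      obtain ⟨b', hb'1, hb'2⟩ : ∃ b' : (yon S).obj D'.N ⟶ (yon S).obj (D j).N, b' ≫ (D j).gN = D'.gN ∧
          b' ≫ (yon S).map (D j).νT = (yon S).map D'.νT ≫ (yon S).map (vι U ≫ v) :=
        ⟨(D j).sqN.lift D'.gN ((yon S).map D'.νT ≫ (yon S).map (vι U ≫ v))
          (by rw [Category.assoc, ← htj]; exact D'.sqN.w), (D j).sqN.lift_fst _ _ _, (D j).sqN.lift_snd _ _ _⟩
      -- restriction of the source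
      obtain ⟨p', hp'1, hp'2⟩ : ∃ p' : (yon S).obj (pullback w (vι U)) ⟶ (yon S).obj D'.N,
          p' ≫ D'.gN = (yon S).map (pullback.fst w (vι U)) ≫ (yon S).map a ≫ (D i).gN ∧
          p' ≫ (yon S).map D'.νT = (yon S).map (pullback.snd w (vι U)) := by
        refine ⟨D'.sqN.lift _ _ ?_, D'.sqN.lift_fst _ _ _, D'.sqN.lift_snd _ _ _⟩
        rw [Category.assoc, Category.assoc, (D i).sqN.w, ← reassoc_of% hwu, ← Functor.map_comp_assoc,
          pullback.condition]
        simp only [Functor.map_comp, Category.assoc]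
      have hpa : p' ≫ a' = (yon S).map (pullback.fst w (vι U)) ≫ (yon S).map a := by
        apply (D i).sqN.hom_ext
        · rw [Category.assoc, Category.assoc, ha'1, hp'1]
        · rw [Category.assoc, Category.assoc, ha'2, reassoc_of% hp'2, ← hwu, ← Functor.map_comp_assoc,
            pullback.condition]
          simp only [Functor.map_comp, Category.assoc]
      have hpb : p' ≫ b' = (yon S).map (pullback.fst w (vι U)) ≫ (yon S).map b := by
        apply (D j).sqN.hom_ext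
        · rw [Category.assoc, Category.assoc, hb'1, hp'1, e]
        · rw [Category.assoc, Category.assoc, hb'2, reassoc_of% hp'2, ← hwv, ← Functor.map_comp_assoc,
            pullback.condition]
          simp only [Functor.map_comp, Category.assoc]
      have key : ∀ (l : ι) (c : (yon S).obj D'.N ⟶ (yon S).obj (D l).N) (s : V U ⟶ T l),
          c ≫ (D l).gN = D'.gN → (yon S).map (vι U ≫ u) ≫ t i = (yon S).map s ≫ t l →
          c ≫ (yon S).map (D l).νT = (yon S).map D'.νT ≫ (yon S).map s →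
          D'.fW' ≫ c ≫ k l = D'.gW ≫ g ∧ (c ≫ k l) ≫ π = D'.gN ≫ ν := by
        intro l c s hc1 hs hc2
        obtain ⟨gW, hgW1, hgW2⟩ : ∃ gW : D'.W ⟶ (D l).W, gW ≫ (D l).gW = D'.gW ∧
            gW ≫ (D l).fW = D'.fW ≫ (yon S).map s :=
          ⟨(D l).sqW.lift D'.gW (D'.fW ≫ (yon S).map s)
            (by rw [Category.assoc, ← hs]; exact D'.sqW.w), (D l).sqW.lift_fst _ _ _, (D l).sqW.lift_snd _ _ _⟩
        have hcW : D'.fW' ≫ c = gW ≫ (D l).fW' := by
          apply (D l).sqN.hom_ext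
          · rw [Category.assoc, Category.assoc, hc1, D'.comm, (D l).comm, reassoc_of% hgW1]
          · rw [Category.assoc, Category.assoc, hc2, (D l).fac, hgW2, ← D'.fac, Category.assoc]
        refine ⟨?_, ?_⟩
        · rw [reassoc_of% hcW, (hk l).1, reassoc_of% hgW1]
        · rw [Category.assoc, (hk l).2, reassoc_of% hc1]
      have e' := (hN'.key D' hX hZ π g hπ hg).unique (key i a' (vι U ≫ u) ha'1 rfl ha'2)
        (key j b' (vι U ≫ v) hb'1 htj hb'2)
      rw [← Category.assoc, ← hpa, ← Category.assoc, ← hpb, Category.assoc, Category.assoc, e']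
  obtain ⟨φ, hφ, hφu⟩ := existsUnique_desc_family (fun i => (D i).N) (fun i => (D i).gN) hqe hqs k hagree
  refine ⟨φ, ⟨?_, ?_⟩, fun ψ hψ => hφu ψ fun i => ?_⟩
  · -- compare after an etale atlas of the source
    refine hom_ext_of_yon fun P b => ?_
    choose V v₁ v₂ hV using fun i => exists_isPullback_yon (hte i).1 (b ≫ f)
    refine hom_ext_fppf (c := v₂) (fun i => ?_) (fun i => ?_) (fun x => ?_) (fun i => ?_)
    · haveI : Etale (v₂ i).left := (hte i).2 _ _ _ (hV i); infer_instance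
    · haveI : Etale (v₂ i).left := (hte i).2 _ _ _ (hV i); infer_instance
    · obtain ⟨i, u, hu⟩ := hts (Points.map (b ≫ f) (Points.schemeHomeo P x))
      obtain ⟨z, -, hz⟩ := points_exists_of_isPullback (hV i) u (Points.schemeHomeo P x) hu
      obtain ⟨z, rfl⟩ := (Points.schemeHomeo (V i)).surjective z
      rw [Points.map_yon_map_apply] at hz
      exact ⟨i, z, (Points.schemeHomeo P).injective hz⟩
    · obtain ⟨d, hd1, hd2⟩ : ∃ d : (yon S).obj (V i) ⟶ (D i).W, d ≫ (D i).gW = (yon S).map (v₂ i) ≫ b ∧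
          d ≫ (D i).fW = (yon S).map (v₁ i) :=
        ⟨(D i).sqW.lift ((yon S).map (v₂ i) ≫ b) ((yon S).map (v₁ i))
          (by rw [Category.assoc]; exact (hV i).w.symm), (D i).sqW.lift_fst _ _ _, (D i).sqW.lift_snd _ _ _⟩
      rw [← reassoc_of% hd1, ← reassoc_of% hd1, ← reassoc_of% (D i).comm, hφ, (hk i).1]
  · refine hom_ext_family (fun i => (D i).N) (fun i => (D i).gN) hqe hqs fun i => ?_
    rw [← Category.assoc, hφ, (hk i).2]
  · refine hku i _ ⟨?_, ?_⟩
    · rw [reassoc_of% (D i).comm, hψ.1]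
    · rw [Category.assoc, hψ.2]

theorem LocNorm.isRelNormalization (h : LocNorm f ν f') (hX : IsAlgSpace X) (hX' : IsAlgSpace X') :
    IsRelNormalization f ν f' :=
  ⟨h.1, h.2.1, fun _ hZ π g hπ hg => h.existsUnique hX hX' hZ π g hπ hg⟩

end Groth.Agent.RelNorm
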