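import Groth.Agent.RelNorm.OfNorm
import Groth.Agent.ASp.SchDenseImage
import Groth.Agent.NagNorm.Basic
import Groth.Agent.S0566

/-!
Over a Nagata base the normalization in a reduced space of finite type is finite.
-/

set_option backward.isDefEq.respectTransparency false
set_option backward.isDefEq.respectTransparency.types false

universe u

open CategoryTheory CategoryTheory.Limits AlgebraicGeometry Opposite

namespace Groth.Agent.RelNorm

open _root_.AlgSp Groth.Agent.ASp

variable {S : Scheme.{u}}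

theorem finite_integralClosure_appTop {A T : Scheme.{u}} [IsAffine A] [IsAffine T] [IsReduced A] (a : A ⟶ T)
    [LocallyOfFiniteType a] (hT : CAlg.IsNagata Γ(T, ⊤)) :
    letI := a.appTop.hom.toAlgebra
    Module.Finite Γ(T, ⊤) (integralClosure Γ(T, ⊤) Γ(A, ⊤)) := by
  haveI : IsNoetherianRing Γ(T, ⊤) := hT.1
  haveI : IsNoetherianRing Γ(A, ⊤) :=
    letI := a.appTop.hom.toAlgebra
    haveI : Algebra.FiniteType Γ(T, ⊤) Γ(A, ⊤) :=
      (HasRingHomProperty.iff_of_isAffine (P := @LocallyOfFiniteType)).1 ‹_›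
    Algebra.FiniteType.isNoetherianRing Γ(T, ⊤) Γ(A, ⊤)
  refine NagNorm.finite_app a ?_ (fun x _ => RingHom.EssFiniteType.residueFieldMap (LocallyOfFiniteType.stalkMap a x))
    (isAffineOpen_top T) hT
  haveI : TopologicalSpace.NoetherianSpace ↥(⊤ : A.Opens) := noetherianSpace_of_isAffineOpen ⊤ (isAffineOpen_top A)
  haveI : TopologicalSpace.NoetherianSpace ↥A := by
    rw [← TopologicalSpace.noetherian_univ_iff]
    exact ‹TopologicalSpace.NoetherianSpace ↥(⊤ : A.Opens)›
  haveI : Finite ↥(irreducibleComponents ↥A) :=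
    TopologicalSpace.NoetherianSpace.finite_irreducibleComponents.to_subtype
  exact locallyFinite_of_finite _

theorem IsClosureEq.isFinite {T A R N : Scheme.{u}} [IsAffine T] [IsAffine A] [IsReduced A] {q₁ q₂ : R ⟶ A}
    {a : A ⟶ T} [LocallyOfFiniteType a] {ν : N ⟶ T} {l : A ⟶ N} (h : IsClosureEq q₁ q₂ a ν l)
    (hT : CAlg.IsNagata Γ(T, ⊤)) : IsFinite ν := by
  haveI := h.affine
  haveI := h.integral
  rw [HasAffineProperty.iff_of_isAffine (P := @IsFinite)]
  refine ⟨h.affine, ?_⟩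
  letI := a.appTop.hom.toAlgebra
  letI := ν.appTop.hom.toAlgebra
  haveI : IsNoetherianRing Γ(T, ⊤) := hT.1
  haveI := finite_integralClosure_appTop a hT
  haveI : IsNoetherian Γ(T, ⊤) (integralClosure Γ(T, ⊤) Γ(A, ⊤)) := isNoetherian_of_isNoetherianRing_of_finite _ _
  let L : Γ(N, ⊤) →ₐ[Γ(T, ⊤)] Γ(A, ⊤) :=
    { l.appTop.hom with
      commutes' := fun r => by
        change l.appTop (ν.appTop r) = a.appTop r
        rw [← ConcreteCategory.comp_apply, ← Scheme.Hom.comp_appTop, h.fac] }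
  exact Module.Finite.of_injective
    (L.toLinearMap.codRestrict (Subalgebra.toSubmodule (integralClosure Γ(T, ⊤) Γ(A, ⊤)))
      fun x => ((h.range _).1 ⟨x, rfl⟩).1)
    fun x y e => h.inj (congrArg Subtype.val e)

theorem LocNorm.isFiniteMor {Y X X' : Sp S} {f : Y ⟶ X} {ν : X' ⟶ X} {f' : Y ⟶ X'} (h : LocNorm f ν f')
    (hY : IsAlgSpace Y) (hX : IsAlgSpace X) (hX' : IsAlgSpace X')
    (hN : EtaleLocally (fun U => ∀ V : U.Opens, IsAffineOpen V → CAlg.IsNagata ↑Γ(U, V)) X)
    (hr : IsReducedSp Y) (hft : IsFiniteTypeMor f) (hqs : IsQuasiSeparatedMor f) : IsFiniteMor ν := by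
  obtain ⟨U, p, hp, hps, hU⟩ := hN
  let T : U.left.affineOpens → Over S := fun V => Over.mk (V.1.ι ≫ U.hom)
  let ζ : ∀ V, T V ⟶ U := fun V => Over.homMk V.1.ι rfl
  have hte : ∀ V, RepWith @Etale ((yon S).map (ζ V) ≫ p) := fun V =>
    repWith_comp (repWith_yon_map (inferInstanceAs (Etale V.1.ι))) hp
  have hts : ∀ x : Points X, ∃ V, x ∈ Set.range (Points.map ((yon S).map (ζ V) ≫ p)) := fun x => by
    obtain ⟨u, rfl⟩ := surjective_ofPt hps x
    obtain ⟨V, hV, huV, -⟩ := exists_isAffineOpen_mem_and_subset (x := u) (U := (⊤ : U.left.Opens)) (by simp)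
    refine ⟨⟨V, hV⟩, Points.ofScheme _ (⟨u, huV⟩ : ↥V.toScheme), ?_⟩
    rw [← Points.ofPt_eq_map_ofScheme, ofPt_yon_map_comp]
    rfl
  have hνr := ((isIntegralMor_iff hX' hX).1 h.2.1).1
  have D : ∀ V, Data f ν f' ((yon S).map (ζ V) ≫ p) := fun V => (exists_data hνr h.1 _).some
  have hfin : ∀ V, IsFinite (D V).νT.left := fun V => by
    haveI hTa : IsAffine (T V).left := V.2
    have hNag : CAlg.IsNagata Γ((T V).left, ⊤) := by
      let e := V.1.topIso.commRingCatIsoToRingEquiv.symm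
      exact @Groth.Agent.S0566.result _ _ (hU V.1 V.2) _ _ e.toRingHom.toAlgebra
        (RingHom.FiniteType.of_surjective e.toRingHom e.surjective)
    have hWa : IsAlgSpace (D V).W := isAlgSpace_of_isPullback hX.diag hY (IsAlgSpace.yon_obj _) (D V).sqW
    have hsm : LocP @Smooth ((yon S).map (ζ V) ≫ p) := locP_of_repWith
      (repWith_mono (fun _ _ g (hg : Etale g) => (inferInstance : Smooth g)) (hte V))
    have hL := h.baseChange hX hX' (IsAlgSpace.yon_obj _) (IsAlgSpace.yon_obj _) hsm (D V).sqW (D V).sqN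
      (D V).fac (D V).comm
    obtain ⟨N₁, ν₁, f₁, hL₁, P, l, hl, hc⟩ := exists_locNorm_affine (D V).fW hTa hWa
      (isQuasiCompactMor_baseChange (D V).sqW hft.2) (isQuasiSeparatedMor_baseChange (D V).sqW hqs)
    haveI := P.hA
    have hchart : RepWith @Etale (P.a ≫ (D V).gW) :=
      repWith_comp P.ha (repWith_of_isPullback (D V).sqW.flip (hte V))
    haveI : IsReduced P.A.left := isReduced_of_chart hr hchart
    haveI : LocallyOfFiniteType P.af.left := hft.1 _ _ P.af hchart (hte V)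
      (by rw [Category.assoc, (D V).sqW.w, reassoc_of% P.haf])
    haveI hf₁ : IsFinite ν₁.left := hc.isFinite hNag
    -- the two normalizations agree
    have hT := IsAlgSpace.yon_obj (T V)
    obtain ⟨a, ⟨ha1, ha2⟩, -⟩ := hL₁.existsUnique hT (IsAlgSpace.yon_obj _) (IsAlgSpace.yon_obj (D V).N) _ _ hL.2.1 hL.1
    obtain ⟨b, ⟨hb1, hb2⟩, -⟩ := hL.existsUnique hT (IsAlgSpace.yon_obj _) (IsAlgSpace.yon_obj N₁) _ _ hL₁.2.1 hL₁.1
    have hba : b ≫ a = 𝟙 _ := (hL.existsUnique hT (IsAlgSpace.yon_obj _) (IsAlgSpace.yon_obj _) _ _ hL.2.1 hL.1).unique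
      ⟨by rw [← Category.assoc, hb1, ha1], by rw [Category.assoc, ha2, hb2]⟩ ⟨Category.comp_id _, Category.id_comp _⟩
    have hab : a ≫ b = 𝟙 _ := (hL₁.existsUnique hT (IsAlgSpace.yon_obj _) (IsAlgSpace.yon_obj _) _ _ hL₁.2.1 hL₁.1).unique
      ⟨by rw [← Category.assoc, ha1, hb1], by rw [Category.assoc, hb2, ha2]⟩ ⟨Category.comp_id _, Category.id_comp _⟩
    haveI : IsIso b := ⟨a, hba, hab⟩
    obtain ⟨b, rfl⟩ := (yon S).map_surjective b
    haveI : IsIso b := isIso_of_fully_faithful (yon S) _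
    haveI : IsIso b.left := inferInstanceAs (IsIso ((Over.forget S).map b))
    have e : b ≫ ν₁ = (D V).νT := (yon S).map_injective (by rw [Functor.map_comp, hb2])
    rw [← e, Over.comp_left]
    infer_instance
  haveI := Groth.Agent.FpqcDesc.isFinite_descends.{u}
  refine (isFiniteMor_iff hX' hX).2 (repWith_of_fpqc_affine (fun k (hk : IsFinite k) => (inferInstance : IsAffineHom k))
    hX' hX (fun V => (D V).sqN) ?_ fun V => repWith_yon_map (hfin V))
  exact isFpqcCover_of_fppf hX (fun V => IsAlgSpace.yon_obj _)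
    (fun V => locP_of_repWith (repWith_mono (fun _ _ g (hg : Etale g) => (inferInstance : Flat g)) (hte V)))
    (fun V => locP_of_repWith (repWith_mono
      (fun _ _ g (hg : Etale g) => (inferInstance : LocallyOfFinitePresentation g)) (hte V))) hts

end Groth.Agent.RelNorm
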