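import Groth.Agent.RelNorm.Exists

/-!
Every normalization of a quasi-compact quasi-separated morphism is a local normalization.
-/

set_option backward.isDefEq.respectTransparency false
set_option backward.isDefEq.respectTransparency.types false

universe u

open CategoryTheory CategoryTheory.Limits AlgebraicGeometry Opposite

namespace Groth.Agent.RelNorm

open _root_.AlgSp Groth.Agent.ASp

variable {S : Scheme.{u}} {Y X X' : Sp S} {f : Y ⟶ X} {ν : X' ⟶ X} {f' : Y ⟶ X'}

theorem locNorm_of_isRelNormalization (hY : IsAlgSpace Y) (hX : IsAlgSpace X) (hX' : IsAlgSpace X')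
    (hqc : IsQuasiCompactMor f) (hqs : IsQuasiSeparatedMor f) (hn : IsRelNormalization f ν f') :
    LocNorm f ν f' := by
  obtain ⟨X₀, ν₀, f₀, hX₀, h⟩ := exists_relNormalization hY hX f hqc hqs
  exact h.of_isRelNormalization hX hX₀ hX' hn

end Groth.Agent.RelNorm
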