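import Groth.Agent.ASp.EtaleCover
import Groth.Agent.ASp.FppfGlue
import Groth.Agent.ASp.Morph

/-!
Disjoint unions in the category of schemes over a base.
-/

set_option backward.isDefEq.respectTransparency false
set_option backward.isDefEq.respectTransparency.types false

universe u

open CategoryTheory CategoryTheory.Limits AlgebraicGeometry Opposite

namespace Groth.Agent.RelNorm

open _root_.AlgSp Groth.Agent.ASp

variable {S : Scheme.{u}} {ι : Type u}

/-- A disjoint union of schemes over `S`. -/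
structure IsSigma (U : ι → Over S) (Z : Over S) (ζ : ∀ i, U i ⟶ Z) : Prop where
  openImm : ∀ i, IsOpenImmersion (ζ i).left
  cover : ∀ z : ↥Z.left, ∃ i, z ∈ Set.range (ζ i).left
  disjoint : ∀ (i j : ι) (W : Over S) (a : W ⟶ U i) (b : W ⟶ U j), a ≫ ζ i = b ≫ ζ j → i ≠ j → IsEmpty W.left
  desc : ∀ {G : Sp S} (k : ∀ i, (yon S).obj (U i) ⟶ G),
    ∃ k' : (yon S).obj Z ⟶ G, ∀ i, (yon S).map (ζ i) ≫ k' = k i

theorem exists_isSigma (U : ι → Over S) : ∃ (Z : Over S) (ζ : ∀ i, U i ⟶ Z), IsSigma U Z ζ := by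
  let Z : Over S := Over.mk (Limits.Sigma.desc fun i => (U i).hom)
  let ζ : ∀ i, U i ⟶ Z := fun i =>
    Over.homMk (Sigma.ι (fun i => (U i).left) i) (Sigma.ι_desc _ _)
  refine ⟨Z, ζ, fun i => inferInstanceAs (IsOpenImmersion (Sigma.ι (fun i => (U i).left) i)), fun z => ?_,
    fun i j W a b h hne => isEmpty_of_commSq_sigmaι_of_ne (g := fun i => (U i).left) (a := a.left) (b := b.left)
      ⟨congrArg CommaMorphism.left h⟩ hne,
    fun k => exists_sigma_desc Z U ζ rfl (fun i => Category.comp_id _) k⟩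
  obtain ⟨i, y, hy⟩ := (sigmaOpenCover fun i => (U i).left).exists_eq z
  exact ⟨i, y, hy⟩

variable {U : ι → Over S} {Z : Over S} {ζ : ∀ i, U i ⟶ Z}

theorem IsSigma.hom_ext (h : IsSigma U Z ζ) {G : Over S} {a b : Z ⟶ G} (e : ∀ i, ζ i ≫ a = ζ i ≫ b) :
    a = b := by
  apply (yon S).map_injective
  exact hom_ext_fppf (c := ζ) (fun i => haveI := h.openImm i; inferInstance)
    (fun i => haveI := h.openImm i; inferInstance) h.cover
    fun i => by rw [← Functor.map_comp, ← Functor.map_comp, e]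

theorem IsSigma.exists_hom (h : IsSigma U Z ζ) {G : Over S} (k : ∀ i, U i ⟶ G) :
    ∃ k' : Z ⟶ G, ∀ i, ζ i ≫ k' = k i := by
  obtain ⟨k', hk'⟩ := h.desc fun i => (yon S).map (k i)
  obtain ⟨k', rfl⟩ := (yon S).map_surjective k'
  exact ⟨k', fun i => (yon S).map_injective (by rw [Functor.map_comp, hk'])⟩

theorem IsSigma.mono (h : IsSigma U Z ζ) (i : ι) : Mono (ζ i) := by
  haveI := h.openImm i
  exact Over.mono_of_mono_left _

/-- A map between disjoint unions is cartesian on the summands. -/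
theorem IsSigma.isPullback (h : IsSigma U Z ζ) {U' : ι → Over S} {Z' : Over S} {ζ' : ∀ i, U' i ⟶ Z'}
    (h' : IsSigma U' Z' ζ') (ν : ∀ i, U' i ⟶ U i) (νZ : Z' ⟶ Z) (e : ∀ i, ζ' i ≫ νZ = ν i ≫ ζ i) (i : ι) :
    IsPullback (ν i) (ζ' i) (ζ i) νZ := by
  haveI := h.openImm i
  haveI := h'.openImm i
  have H : IsPullback (ν i).left (ζ' i).left (ζ i).left νZ.left := by
    refine IsOpenImmersion.isPullback _ _ _ _ (congrArg CommaMorphism.left (e i)) ?_
    ext z
    constructor
    · rintro ⟨y, hy⟩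
      obtain ⟨j, x, rfl⟩ := h'.cover z
      by_cases hij : j = i
      · exact hij ▸ ⟨x, rfl⟩
      · exfalso
        have hy' : (ζ i).left y = (ζ j).left ((ν j).left x) := by
          rw [hy, ← Scheme.Hom.comp_apply, ← Scheme.Hom.comp_apply, ← Over.comp_left, ← Over.comp_left, e]
        obtain ⟨w, -, -⟩ := Scheme.Pullback.exists_preimage_pullback (f := (ζ i).left) (g := (ζ j).left) y
          ((ν j).left x) hy'
        exact (h.disjoint i j (pullback (ζ i) (ζ j)) _ _ pullback.condition (Ne.symm hij)).false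
          ((isPullback_left (IsPullback.of_hasPullback (ζ i) (ζ j))).isoPullback.inv w)
    · rintro ⟨x, rfl⟩
      exact ⟨(ν i).left x, by rw [← Scheme.Hom.comp_apply, ← Scheme.Hom.comp_apply, ← Over.comp_left,
        ← Over.comp_left, e]⟩
  exact IsPullback.of_map (Over.forget S) (e i).symm H

end Groth.Agent.RelNorm
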