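import Groth.Agent.RelNorm.Compat
import Groth.Agent.RelNorm.SigmaOver

/-!
Overlaps of an etale family and the transition maps between local normalizations.
-/

set_option backward.isDefEq.respectTransparency false
set_option backward.isDefEq.respectTransparency.types false

universe u

open CategoryTheory CategoryTheory.Limits AlgebraicGeometry Opposite

namespace Groth.Agent.RelNorm

open _root_.AlgSp Groth.Agent.ASp

variable {S : Scheme.{u}} {Y X : Sp S} {f : Y ⟶ X} {ι : Type u} {T : ι → Over S}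
  (t : ∀ i, (yon S).obj (T i) ⟶ X) {N : ι → Over S} (ν : ∀ i, N i ⟶ T i)
  (f' : ∀ i, pullback f (t i) ⟶ (yon S).obj (N i))

/-- An overlap with its transition map. -/
structure Trans (i k : ι) where
  Q : Over S
  u : Q ⟶ T i
  v : Q ⟶ T k
  hQ : IsPullback ((yon S).map u) ((yon S).map v) (t i) (t k)
  hu : Etale u.left
  M : Over S
  m₁ : M ⟶ N i
  m₂ : M ⟶ Q
  sq : IsPullback m₁ m₂ (ν i) u
  c : M ⟶ N k
  hc : c ≫ ν k = m₂ ≫ v
  compat : ∀ (P : Over S) (m : P ⟶ M) (y : (yon S).obj P ⟶ Y), IsImg f' i y (m ≫ m₁) → IsImg f' k y (m ≫ c)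

variable {t ν f'} (hfac : ∀ i, f' i ≫ (yon S).map (ν i) = pullback.snd f (t i))
  (hY : IsAlgSpace Y) (hX : IsAlgSpace X)
  (hL : ∀ i, LocNorm (pullback.snd f (t i)) ((yon S).map (ν i)) (f' i))

include hfac hY hX hL

/-- Compatible maps over an etale piece of an overlap are unique. -/
theorem transition_unique {i k : ι} {Q : Over S} (q : Q ⟶ T i) (r : Q ⟶ T k) (hq : Etale q.left)
    (e : (yon S).map q ≫ t i = (yon S).map r ≫ t k) {M : Over S} {m₁ : M ⟶ N i} {m₂ : M ⟶ Q}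
    (sq : IsPullback m₁ m₂ (ν i) q) {c c' : M ⟶ N k} (hc : c ≫ ν k = m₂ ≫ r)
    (hc' : c' ≫ ν k = m₂ ≫ r)
    (h : ∀ (P : Over S) (m : P ⟶ M) (y : (yon S).obj P ⟶ Y), IsImg f' i y (m ≫ m₁) → IsImg f' k y (m ≫ c))
    (h' : ∀ (P : Over S) (m : P ⟶ M) (y : (yon S).obj P ⟶ Y), IsImg f' i y (m ≫ m₁) → IsImg f' k y (m ≫ c')) :
    c = c' :=
  (existsUnique_transition hfac hY hX hL q r hq e sq).unique ⟨hc, h⟩ ⟨hc', h'⟩

/-- The transition along the diagonal is the identity. -/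
theorem Trans.refl_eq {i : ι} (D : Trans t ν f' i i) {W : Over S} (g : W ⟶ D.M)
    (h : g ≫ D.m₂ ≫ D.u = g ≫ D.m₂ ≫ D.v) : g ≫ D.c = g ≫ D.m₁ := by
  obtain ⟨d, hd1, hd2⟩ : ∃ d : T i ⟶ D.Q, d ≫ D.u = 𝟙 _ ∧ d ≫ D.v = 𝟙 _ := by
    obtain ⟨d, hd⟩ := (yon S).map_surjective (D.hQ.lift (𝟙 _) (𝟙 _) rfl)
    exact ⟨d, (yon S).map_injective (by rw [Functor.map_comp, hd, D.hQ.lift_fst, CategoryTheory.Functor.map_id]),
      (yon S).map_injective (by rw [Functor.map_comp, hd, D.hQ.lift_snd, CategoryTheory.Functor.map_id])⟩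
  obtain ⟨δ, hδ1, hδ2⟩ : ∃ δ : N i ⟶ D.M, δ ≫ D.m₁ = 𝟙 _ ∧ δ ≫ D.m₂ = ν i ≫ d :=
    ⟨D.sq.lift (𝟙 _) (ν i ≫ d) (by rw [Category.assoc, hd1, Category.id_comp, Category.comp_id]),
      D.sq.lift_fst _ _ _, D.sq.lift_snd _ _ _⟩
  have key : δ ≫ D.c = 𝟙 (N i) :=
    transition_unique hfac hY hX hL (𝟙 (T i)) (𝟙 (T i)) (show Etale (𝟙 (T i).left) from inferInstance) rfl
      (m₁ := 𝟙 (N i)) (m₂ := ν i) (IsPullback.of_horiz_isIso ⟨by simp⟩)
      (by rw [Category.assoc, D.hc, reassoc_of% hδ2, hd2]) (by simp)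
      (fun P m y hy => by
        have := D.compat P (m ≫ δ) y (by simpa [Category.assoc, hδ1] using hy)
        simpa [Category.assoc] using this)
      (fun P m y hy => hy)
  have hg : g = (g ≫ D.m₁) ≫ δ := by
    refine D.sq.hom_ext ?_ ?_
    · rw [Category.assoc, Category.assoc, hδ1, Category.comp_id]
    · rw [Category.assoc, Category.assoc, hδ2, reassoc_of% D.sq.w]
      apply (yon S).map_injective
      apply D.hQ.hom_ext
      · simp only [← Functor.map_comp, Category.assoc, hd1, Category.comp_id]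
      · simp only [← Functor.map_comp, Category.assoc, hd2, Category.comp_id, h]
  conv_lhs => rw [hg]
  rw [Category.assoc, key, Category.comp_id]

/-- The cocycle condition. -/
theorem Trans.cocycle (hte : ∀ i, RepWith @Etale (t i)) {i j l : ι} (D₁ : Trans t ν f' i j)
    (D₂ : Trans t ν f' j l) (D₃ : Trans t ν f' i l) {W : Over S} (g₁ : W ⟶ D₁.M) (g₂ : W ⟶ D₂.M) (g₃ : W ⟶ D₃.M)
    (e₁ : g₁ ≫ D₁.c = g₂ ≫ D₂.m₁) (e₂ : g₃ ≫ D₃.m₁ = g₁ ≫ D₁.m₁)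
    (e₃ : g₃ ≫ D₃.m₂ ≫ D₃.v = g₂ ≫ D₂.m₂ ≫ D₂.v) : g₃ ≫ D₃.c = g₂ ≫ D₂.c := by
  have sQ := IsPullback.of_hasPullback D₁.v D₂.u
  let q : pullback D₁.v D₂.u ⟶ T i := pullback.fst D₁.v D₂.u ≫ D₁.u
  let r : pullback D₁.v D₂.u ⟶ T l := pullback.snd D₁.v D₂.u ≫ D₂.v
  have hq : Etale q.left := by
    haveI : Etale (pullback.fst D₁.v D₂.u).left :=
      MorphismProperty.of_isPullback (isPullback_left sQ).flip D₂.hu
    haveI := D₁.hu
    simp only [q, Over.comp_left]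
    infer_instance
  have hqr : (yon S).map q ≫ t i = (yon S).map r ≫ t l := by
    simp only [q, r, Functor.map_comp, Category.assoc, D₁.hQ.w, ← D₂.hQ.w]
    rw [← Functor.map_comp_assoc, sQ.w, Functor.map_comp_assoc]
  have sM := IsPullback.of_hasPullback (ν i) q
  obtain ⟨G₁, hG11, hG12⟩ : ∃ G : pullback (ν i) q ⟶ D₁.M, G ≫ D₁.m₁ = pullback.fst (ν i) q ∧
      G ≫ D₁.m₂ = pullback.snd (ν i) q ≫ pullback.fst D₁.v D₂.u :=
    ⟨D₁.sq.lift _ _ (by rw [Category.assoc]; exact sM.w), D₁.sq.lift_fst _ _ _, D₁.sq.lift_snd _ _ _⟩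
  obtain ⟨G₂, hG21, hG22⟩ : ∃ G : pullback (ν i) q ⟶ D₂.M, G ≫ D₂.m₁ = G₁ ≫ D₁.c ∧
      G ≫ D₂.m₂ = pullback.snd (ν i) q ≫ pullback.snd D₁.v D₂.u :=
    ⟨D₂.sq.lift _ _ (by rw [Category.assoc, D₁.hc, reassoc_of% hG12, Category.assoc, sQ.w]),
      D₂.sq.lift_fst _ _ _, D₂.sq.lift_snd _ _ _⟩
  obtain ⟨Q₃, hQ31, hQ32⟩ : ∃ Q₃ : pullback D₁.v D₂.u ⟶ D₃.Q, Q₃ ≫ D₃.u = q ∧ Q₃ ≫ D₃.v = r := by
    obtain ⟨d, hd⟩ := (yon S).map_surjective (D₃.hQ.lift ((yon S).map q) ((yon S).map r) hqr)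
    exact ⟨d, (yon S).map_injective (by rw [Functor.map_comp, hd, D₃.hQ.lift_fst]),
      (yon S).map_injective (by rw [Functor.map_comp, hd, D₃.hQ.lift_snd])⟩
  obtain ⟨G₃, hG31, hG32⟩ : ∃ G : pullback (ν i) q ⟶ D₃.M, G ≫ D₃.m₁ = pullback.fst (ν i) q ∧
      G ≫ D₃.m₂ = pullback.snd (ν i) q ≫ Q₃ :=
    ⟨D₃.sq.lift _ _ (by rw [Category.assoc, hQ31]; exact sM.w), D₃.sq.lift_fst _ _ _, D₃.sq.lift_snd _ _ _⟩
  have key : G₃ ≫ D₃.c = G₂ ≫ D₂.c :=
    transition_unique hfac hY hX hL q r hq hqr sM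
      (by rw [Category.assoc, D₃.hc, reassoc_of% hG32, hQ32])
      (by rw [Category.assoc, D₂.hc, reassoc_of% hG22])
      (fun P m y hy => by
        have := D₃.compat P (m ≫ G₃) y (by simpa [Category.assoc, hG31] using hy)
        simpa [Category.assoc] using this)
      (fun P m y hy => by
        have h₁ := D₁.compat P (m ≫ G₁) y (by simpa [Category.assoc, hG11] using hy)
        have h₂ := D₂.compat P (m ≫ G₂) y (by simpa [Category.assoc, hG21] using h₁)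
        simpa [Category.assoc] using h₂)
  -- the universal triple
  obtain ⟨w, hw1, hw2⟩ : ∃ w : W ⟶ pullback D₁.v D₂.u, w ≫ pullback.fst _ _ = g₁ ≫ D₁.m₂ ∧
      w ≫ pullback.snd _ _ = g₂ ≫ D₂.m₂ :=
    ⟨sQ.lift _ _ (by rw [Category.assoc, ← D₁.hc, reassoc_of% e₁, D₂.sq.w, Category.assoc]),
      sQ.lift_fst _ _ _, sQ.lift_snd _ _ _⟩
  obtain ⟨h, hh1, hh2⟩ : ∃ h : W ⟶ pullback (ν i) q, h ≫ pullback.fst _ _ = g₁ ≫ D₁.m₁ ∧
      h ≫ pullback.snd _ _ = w :=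
    ⟨sM.lift _ _ (by simp only [q, Category.assoc, D₁.sq.w, reassoc_of% hw1]),
      sM.lift_fst _ _ _, sM.lift_snd _ _ _⟩
  have h1 : h ≫ G₁ = g₁ := D₁.sq.hom_ext (by rw [Category.assoc, hG11, hh1])
    (by rw [Category.assoc, hG12, reassoc_of% hh2, hw1])
  have h2 : h ≫ G₂ = g₂ := D₂.sq.hom_ext (by rw [Category.assoc, hG21, reassoc_of% h1, e₁])
    (by rw [Category.assoc, hG22, reassoc_of% hh2, hw2])
  have h3 : h ≫ G₃ = g₃ := by
    refine D₃.sq.hom_ext (by rw [Category.assoc, hG31, hh1, e₂]) ?_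
    rw [Category.assoc, hG32, reassoc_of% hh2]
    apply (yon S).map_injective
    apply D₃.hQ.hom_ext
    · simp only [← Functor.map_comp, Category.assoc, hQ31, q, reassoc_of% hw1, ← D₃.sq.w, reassoc_of% e₂, D₁.sq.w]
    · simp only [← Functor.map_comp, Category.assoc, hQ32, r, reassoc_of% hw2, e₃]
  rw [← h3, ← h2, Category.assoc, Category.assoc, key]

end Groth.Agent.RelNorm
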