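import Groth.Agent.RelNorm.OfNorm
import Groth.Agent.ASp.Sub
import Groth.Agent.ASp.Univ
import Groth.Agent.ASp.YonExt

/-!
A finite open and closed piece of the source is an open piece of the normalization.
-/

set_option backward.isDefEq.respectTransparency false
set_option backward.isDefEq.respectTransparency.types false

universe u

open CategoryTheory CategoryTheory.Limits AlgebraicGeometry Opposite

namespace Groth.Agent.RelNorm

open _root_.AlgSp Groth.Agent.ASp

variable {S : Scheme.{u}}

/-- A map can be changed on an open and closed subscheme. -/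
theorem exists_glue_clopen {W G : Sp S} (hW : IsAlgSpace W) {V : Over S} (j : (yon S).obj V ⟶ W)
    (ho : RepWith @IsOpenImmersion j) (hc : RepWith @IsClosedImmersion j) (k : (yon S).obj V ⟶ G) (g₀ : W ⟶ G) :
    ∃ (A : Over S) (i : (yon S).obj A ⟶ W) (g : W ⟶ G), RepWith @Etale i ∧
      (∀ x, x ∈ Set.range (Points.map i) ↔ x ∉ Set.range (Points.map j)) ∧
      j ≫ g = k ∧ i ≫ g = i ≫ g₀ ∧
      ∀ {H : Sp S} (a b : W ⟶ H), j ≫ a = j ≫ b → i ≫ a = i ≫ b → a = b := by
  let C : Set (Points W) := (Set.range (Points.map j))ᶜ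
  have hC : IsOpen C := by
    have h := isClosedMap_map_of_repWith (P := @IsClosedImmersion)
      (fun g hg => haveI : IsClosedImmersion g := hg; g.isClosedEmbedding.isClosedMap) hc
    exact h.isClosed_range.isOpen_compl
  obtain ⟨A, a, ha, has⟩ := (isAlgSpace_subSp hW hC).atlas
  have hsub : RepWith @Etale (subι W C) :=
    repWith_mono (fun _ _ g (hg : IsOpenImmersion g) => inferInstanceAs (Etale g)) (repWith_subι W C hC)
  have hi : RepWith @Etale (a ≫ subι W C) := repWith_comp ha hsub
  have hrange : ∀ x, x ∈ Set.range (Points.map (a ≫ subι W C)) ↔ x ∉ Set.range (Points.map j) := fun x => by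
    constructor
    · rintro ⟨z, rfl⟩
      rw [Points.map_comp]
      exact (range_map_subι W C).le ⟨_, rfl⟩
    · intro hx
      obtain ⟨y, rfl⟩ := (range_map_subι W C).ge (show x ∈ C from hx)
      obtain ⟨z, rfl⟩ := surjective_map_of_repWith has y
      exact ⟨z, by rw [Points.map_comp]⟩
  haveI : Mono j := mono_of_repWith (P := @IsOpenImmersion)
    (fun g hg => haveI : IsOpenImmersion g := hg; inferInstance) ho
  let U : ULift.{u} Bool → Over S := fun b => if b.down then V else A
  let q : ∀ b, (yon S).obj (U b) ⟶ W := fun b => match b with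
    | ⟨true⟩ => j
    | ⟨false⟩ => a ≫ subι W C
  have hq : ∀ b, RepWith @Etale (q b) := fun b => match b with
    | ⟨true⟩ => repWith_mono (fun _ _ g (hg : IsOpenImmersion g) => inferInstanceAs (Etale g)) ho
    | ⟨false⟩ => hi
  have hqs : ∀ x, ∃ b, x ∈ Set.range (Points.map (q b)) := fun x => by
    by_cases hx : x ∈ Set.range (Points.map j)
    · exact ⟨⟨true⟩, hx⟩
    · exact ⟨⟨false⟩, (hrange x).2 hx⟩
  let kf : ∀ b, (yon S).obj (U b) ⟶ G := fun b => match b with
    | ⟨true⟩ => k
    | ⟨false⟩ => (a ≫ subι W C) ≫ g₀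
  have hempty : ∀ {P : Over S} (c : P ⟶ V) (d : P ⟶ A),
      (yon S).map c ≫ j = (yon S).map d ≫ a ≫ subι W C → IsEmpty P.left := by
    intro P c d e
    refine ⟨fun z => (hrange (Points.map ((yon S).map d ≫ a ≫ subι W C) (Points.schemeHomeo P z))).1
      ⟨Points.map ((yon S).map d) (Points.schemeHomeo P z), (Points.map_comp _ _ _).symm⟩ ?_⟩
    exact ⟨Points.map ((yon S).map c) (Points.schemeHomeo P z), by rw [← Points.map_comp, e]⟩
  have hext : ∀ {P : Over S} {H : Sp S} (x y : (yon S).obj P ⟶ H), IsEmpty P.left → x = y := by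
    intro P H x y hP
    exact hom_ext_fppf (ι := PEmpty.{u+1}) (U := fun e => nomatch e) (c := fun e => nomatch e)
      (fun e => nomatch e) (fun e => nomatch e) (fun z => hP.elim z) (fun e => nomatch e)
  obtain ⟨g, hg, -⟩ := existsUnique_desc_family U q hq hqs kf (fun b b' P c d e => by
    obtain ⟨_ | _⟩ := b <;> obtain ⟨_ | _⟩ := b'
    · dsimp only [q, kf] at e ⊢
      simp only [← Category.assoc] at e ⊢
      rw [e]
    · exact hext _ _ (hempty d c e.symm)
    · exact hext _ _ (hempty c d e)
    · dsimp only [q, kf] at e ⊢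
      rw [(yon S).map_injective ((cancel_mono j).1 e)])
  refine ⟨A, a ≫ subι W C, g, hi, hrange, hg ⟨true⟩, hg ⟨false⟩, fun x y h1 h2 => hom_ext_family U q hq hqs ?_⟩
  rintro ⟨_ | _⟩
  · exact h2
  · exact h1

/-- A finite open and closed piece of the source is an open piece of the normalization. -/
theorem exists_open_of_finite_piece {T N V : Over S} {W : Sp S} (hW : IsAlgSpace W)
    {fT : W ⟶ (yon S).obj T} {νT : N ⟶ T} {fW' : W ⟶ (yon S).obj N}
    (hn : IsRelNormalization fT ((yon S).map νT) fW')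
    (j : (yon S).obj V ⟶ W) (ho : RepWith @IsOpenImmersion j) (hc : RepWith @IsClosedImmersion j) {v : V ⟶ T}
    (hv : j ≫ fT = (yon S).map v) (hfin : IsFinite v.left) :
    ∃ (O : Over S) (o : O ⟶ N) (k : V ⟶ O), IsOpenImmersion o.left ∧ IsIso k ∧
      IsPullback j ((yon S).map k) fW' ((yon S).map o) := by
  obtain ⟨hfac, hint, huniv⟩ := hn
  have hνi : IsIntegralHom νT.left :=
    (repWith_yon_map_iff _ _).1 ((isIntegralMor_iff (IsAlgSpace.yon_obj _) (IsAlgSpace.yon_obj _)).1 hint)
  haveI := hνi
  haveI := hfin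
  obtain ⟨jN, hjN⟩ := (yon S).map_surjective (j ≫ fW')
  have hjNν : jN ≫ νT = v := (yon S).map_injective (by rw [Functor.map_comp, hjN, Category.assoc, hfac, hv])
  -- the test object `V ⨿ N`
  let Z : Over S := Over.mk (coprod.desc V.hom N.hom)
  let zV : V ⟶ Z := Over.homMk coprod.inl (coprod.inl_desc _ _)
  let zN : N ⟶ Z := Over.homMk coprod.inr (coprod.inr_desc _ _)
  let π : Z ⟶ T := Over.homMk (coprod.desc v.left νT.left) (by
    change coprod.desc v.left νT.left ≫ T.hom = coprod.desc V.hom N.hom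
    rw [coprod.desc_comp, Over.w, Over.w])
  have hπV : zV ≫ π = v := Over.OverMorphism.ext (coprod.inl_desc _ _)
  have hπN : zN ≫ π = νT := Over.OverMorphism.ext (coprod.inr_desc _ _)
  let d : Z ⟶ N := Over.homMk (coprod.desc jN.left (𝟙 N.left)) (by
    change coprod.desc jN.left (𝟙 N.left) ≫ N.hom = coprod.desc V.hom N.hom
    rw [coprod.desc_comp, Over.w, Category.id_comp])
  have hdV : zV ≫ d = jN := Over.OverMorphism.ext (coprod.inl_desc _ _)
  have hdN : zN ≫ d = 𝟙 N := Over.OverMorphism.ext (coprod.inr_desc _ _)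
  have hdν : d ≫ νT = π := by
    refine Over.OverMorphism.ext (coprod.hom_ext ?_ ?_)
    · change (zV ≫ d ≫ νT).left = (zV ≫ π).left
      rw [reassoc_of% hdV, hjNν, hπV]
    · change (zN ≫ d ≫ νT).left = (zN ≫ π).left
      rw [reassoc_of% hdN, hπN]
  haveI hπi : IsIntegralHom π.left := inferInstanceAs (IsIntegralHom (coprod.desc v.left νT.left))
  obtain ⟨A, i, g, -, hrange, hgj, hgi, hext⟩ :=
    exists_glue_clopen hW j ho hc ((yon S).map zV) (fW' ≫ (yon S).map zN)
  have hgπ : g ≫ (yon S).map π = fT := hext _ _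
    (by rw [reassoc_of% hgj, hv, ← Functor.map_comp, hπV])
    (by rw [reassoc_of% hgi, ← Functor.map_comp, hπN, hfac])
  obtain ⟨h, ⟨hh1, hh2⟩, -⟩ := huniv (IsAlgSpace.yon_obj Z) ((yon S).map π) g
    ((isIntegralMor_iff (IsAlgSpace.yon_obj _) (IsAlgSpace.yon_obj _)).2 (repWith_yon_map hπi)) hgπ
  obtain ⟨h, rfl⟩ := (yon S).map_surjective h
  have hd : h ≫ d = 𝟙 N := by
    apply (yon S).map_injective
    rw [Functor.map_comp, CategoryTheory.Functor.map_id]
    refine (huniv (IsAlgSpace.yon_obj N) ((yon S).map νT) fW' hint hfac).unique ⟨?_, ?_⟩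
      ⟨Category.comp_id _, Category.id_comp _⟩
    · rw [← Category.assoc, hh1]
      refine hext _ _ ?_ ?_
      · rw [reassoc_of% hgj, ← Functor.map_comp, hdV, hjN]
      · rw [reassoc_of% hgi, ← Functor.map_comp, hdN, CategoryTheory.Functor.map_id, Category.comp_id]
    · rw [Category.assoc, ← (yon S).map_comp d νT, hdν]
      exact hh2
  -- the open piece
  haveI hzo : IsOpenImmersion zV.left := inferInstanceAs (IsOpenImmersion (coprod.inl : V.left ⟶ V.left ⨿ N.left))
  haveI : Mono zV := Over.mono_of_mono_left _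
  have sO := IsPullback.of_hasPullback h zV
  let O := pullback h zV
  let o : O ⟶ N := pullback.fst h zV
  let w : O ⟶ V := pullback.snd h zV
  have hoimm : IsOpenImmersion o.left := MorphismProperty.of_isPullback (isPullback_left sO).flip hzo
  haveI := hoimm
  haveI : Mono o := Over.mono_of_mono_left _
  have hjh : jN ≫ h = zV := (yon S).map_injective (by rw [Functor.map_comp, hjN, Category.assoc, hh1, hgj])
  let k : V ⟶ O := pullback.lift jN (𝟙 V) (by rw [hjh, Category.id_comp])
  have hko : k ≫ o = jN := pullback.lift_fst _ _ _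
  have hkw : k ≫ w = 𝟙 V := pullback.lift_snd _ _ _
  have hwk : w ≫ k = 𝟙 O := by
    rw [← cancel_mono o, Category.assoc, hko, Category.id_comp]
    calc w ≫ jN = w ≫ zV ≫ d := by rw [hdV]
      _ = o ≫ h ≫ d := by rw [← Category.assoc, ← sO.w, Category.assoc]
      _ = o := by rw [hd, Category.comp_id]
  have hk : IsIso k := ⟨w, hkw, hwk⟩
  refine ⟨O, o, k, hoimm, hk, ?_⟩
  haveI : Mono ((yon S).map o) := inferInstance
  have hw0 : j ≫ fW' = (yon S).map k ≫ (yon S).map o := by rw [← Functor.map_comp, hko, hjN]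
  obtain ⟨Q, fst, snd, hQ⟩ : ∃ (Q : Sp S) (fst : Q ⟶ W) (snd : Q ⟶ (yon S).obj O),
      IsPullback fst snd fW' ((yon S).map o) := ⟨_, _, _, IsPullback.of_hasPullback _ _⟩
  obtain ⟨l, hl1, hl2⟩ : ∃ l : (yon S).obj V ⟶ Q, l ≫ fst = j ∧ l ≫ snd = (yon S).map k :=
    ⟨hQ.lift j ((yon S).map k) hw0, hQ.lift_fst _ _ _, hQ.lift_snd _ _ _⟩
  haveI : IsIso l := by
    refine isIso_of_yon l fun P b => ?_
    obtain ⟨p, hp⟩ := (yon S).map_surjective (b ≫ snd)
    -- all points of `b ≫ fst` lie in the range of `j`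
    have hall : ∀ z, Points.ofPt (b ≫ fst) z ∈ Set.range (Points.map j) := by
      intro z
      by_contra hz
      obtain ⟨zA, hzA⟩ := (hrange _).2 hz
      obtain ⟨zA, rfl⟩ := (Points.schemeHomeo A).surjective zA
      obtain ⟨iN, hiN⟩ := (yon S).map_surjective (i ≫ fW')
      have e1 : iN ≫ h = iN ≫ zN := (yon S).map_injective (by
        rw [Functor.map_comp, Functor.map_comp, hiN, Category.assoc, hh1, hgi, Category.assoc])
      have e2 : iN.left zA = o.left (p.left z) := by
        apply (Points.schemeHomeo N).injective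
        have h3 := congrArg (Points.map fW') hzA
        rw [← Points.map_comp, ← hiN, Points.map_ofPt, Category.assoc, hQ.w, ← Category.assoc, ← hp,
          ← Functor.map_comp, Points.map_yon_map_apply] at h3
        rw [h3, Points.ofPt_eq_map_ofScheme]
        exact Points.map_yon_map_apply (p ≫ o) z
      have e3 : h.left (o.left (p.left z)) = zV.left (w.left (p.left z)) := by
        rw [← Scheme.Hom.comp_apply, ← Over.comp_left, sO.w]; rfl
      have e4 : zN.left (iN.left zA) = zV.left (w.left (p.left z)) := by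
        rw [← Scheme.Hom.comp_apply, ← Over.comp_left, ← e1, Over.comp_left, Scheme.Hom.comp_apply, e2, e3]
      exact Set.disjoint_left.1 (isCompl_range_inl_inr V.left N.left).disjoint (show zN.left (iN.left zA) ∈ _ from ⟨_, e4.symm⟩) ⟨_, rfl⟩
    haveI : Mono j := mono_of_repWith (P := @IsOpenImmersion)
      (fun g hg => haveI : IsOpenImmersion g := hg; inferInstance) ho
    haveI hl : Mono l := mono_of_mono_fac hl1
    obtain ⟨P', u, c, hP'⟩ := exists_isPullback_yon ho.1 (b ≫ fst)
    haveI : IsIso c := by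
      haveI hco : IsOpenImmersion c.left := ho.2 _ _ c hP'
      haveI : Surjective c.left := ⟨fun z => by
        obtain ⟨x, hx⟩ := hall z
        obtain ⟨y, -, hy⟩ := points_exists_of_isPullback hP' x (Points.schemeHomeo P z) (by
          rw [hx, Points.ofPt_eq_map_ofScheme]; rfl)
        obtain ⟨y, rfl⟩ := (Points.schemeHomeo P').surjective y
        rw [Points.map_yon_map_apply] at hy
        exact ⟨y, (Points.schemeHomeo P).injective hy⟩⟩
      haveI : IsIso c.left := (isIso_iff_isOpenImmersion_and_surjective c.left).2 ⟨hco, inferInstance⟩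
      haveI : IsIso ((Over.forget S).map c) := inferInstanceAs (IsIso c.left)
      exact isIso_of_reflects_iso c (Over.forget S)
    refine ⟨(yon S).map (inv c ≫ u), ?_, fun a' ha' => (cancel_mono l).1 (ha'.trans ?_)⟩
    all_goals
      have e : (yon S).map (inv c ≫ u) ≫ l = b := by
        apply hQ.hom_ext
        · rw [Category.assoc, hl1, Functor.map_comp, Category.assoc, hP'.w, Functor.map_inv, IsIso.inv_hom_id_assoc]
        · rw [← cancel_mono ((yon S).map o), Category.assoc, Category.assoc, ← hQ.w, reassoc_of% hl1,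
            Functor.map_comp, Category.assoc, reassoc_of% hP'.w, Functor.map_inv, IsIso.inv_hom_id_assoc, Category.assoc, hQ.w]
    · exact e
    · exact e.symm
  exact IsPullback.of_iso hQ (asIso l).symm (Iso.refl _) (Iso.refl _) (Iso.refl _)
    (by simp [← hl1]) (by simp [← hl2]) (by simp) (by simp)

end Groth.Agent.RelNorm
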