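import Groth.Agent.RelNorm.OfNorm
import Groth.Agent.ASp.ChartDim
import Groth.Agent.ASp.GenFinite
import Groth.Agent.ASp.DecentDim
import Groth.Agent.ASp.SchDenseImage

/-!
Reducedness and points of codimension zero of a normalization.
-/

set_option backward.isDefEq.respectTransparency false
set_option backward.isDefEq.respectTransparency.types false

universe u

open CategoryTheory CategoryTheory.Limits AlgebraicGeometry Opposite

namespace Groth.Agent.RelNorm

open _root_.AlgSp Groth.Agent.ASp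

variable {S : Scheme.{u}}

/-- A map of affine schemes injective on functions reaches every point without proper generalization. -/
theorem exists_preimage_of_injective {A N : Scheme.{u}} [IsAffine A] [IsAffine N] (l : A ⟶ N)
    (hl : Function.Injective l.appTop) (n : ↥N) (hn : ∀ m, m ⤳ n → m = n) : ∃ a, l a = n := by
  have e : l = A.isoSpec.hom ≫ Spec.map l.appTop ≫ N.isoSpec.inv := by
    rw [← cancel_mono N.isoSpec.hom]
    simp [Scheme.isoSpec, Scheme.toSpecΓ_naturality]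
  let q : PrimeSpectrum Γ(N, ⊤) := N.isoSpec.hom n
  have hqn : N.isoSpec.inv q = n := by rw [← Scheme.Hom.comp_apply, Iso.hom_inv_id]; rfl
  obtain ⟨I, hI, hle⟩ := Ideal.exists_minimalPrimes_le (J := q.asIdeal) bot_le
  have hs : (⟨I, hI.1.1⟩ : PrimeSpectrum Γ(N, ⊤)) ⤳ q := (PrimeSpectrum.le_iff_specializes _ _).1 hle
  obtain ⟨J, hJ, hJI⟩ := Ideal.exists_comap_eq_of_mem_minimalPrimes_of_injective (f := l.appTop.hom) hl I hI
  have h1 : Spec.map l.appTop (⟨J, hJ⟩ : PrimeSpectrum Γ(A, ⊤)) = (⟨I, hI.1.1⟩ : PrimeSpectrum Γ(N, ⊤)) :=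
    PrimeSpectrum.ext hJI
  refine ⟨A.isoSpec.inv (⟨J, hJ⟩ : PrimeSpectrum Γ(A, ⊤)), ?_⟩
  conv_lhs => rw [e]
  rw [Scheme.Hom.comp_apply, ← Scheme.Hom.comp_apply A.isoSpec.inv, Iso.inv_hom_id]
  change N.isoSpec.inv (Spec.map l.appTop (⟨J, hJ⟩ : PrimeSpectrum Γ(A, ⊤))) = n
  rw [h1]
  refine (hn _ ?_)
  rw [← hqn]
  exact hs.map N.isoSpec.inv.continuous

variable {Y X X' : Sp S} {f : Y ⟶ X} {ν : X' ⟶ X} {f' : Y ⟶ X'}

/-- The affine charts of a normalization. -/
theorem LocNorm.charts (h : LocNorm f ν f') :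
    ∃ (ι : Type u) (N A : ι → Over S) (q : ∀ i, (yon S).obj (N i) ⟶ X') (b : ∀ i, (yon S).obj (A i) ⟶ Y)
      (l : ∀ i, A i ⟶ N i), (∀ i, RepWith @Etale (q i)) ∧ (∀ x, ∃ i, x ∈ Set.range (Points.map (q i))) ∧
        (∀ i, RepWith @Etale (b i)) ∧ (∀ i, b i ≫ f' = (yon S).map (l i) ≫ q i) ∧
        (∀ i, IsAffine (N i).left ∧ IsAffine (A i).left ∧ Function.Injective (l i).left.appTop) := by
  obtain ⟨-, -, ι, T, t, hte, hts, hN⟩ := h
  choose hT D hD using hN
  choose P l hl hc using hD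
  refine ⟨ι, fun i => (D i).N, fun i => (P i).A, fun i => (D i).gN, fun i => (P i).a ≫ (D i).gW, l,
    fun i => repWith_of_isPullback (D i).sqN.flip (hte i), fun x => ?_,
    fun i => repWith_comp (P i).ha (repWith_of_isPullback (D i).sqW.flip (hte i)),
    fun i => by rw [Category.assoc, ← (D i).comm, reassoc_of% (hl i)],
    fun i => ⟨(hc i).affine, (P i).hA, (hc i).inj⟩⟩
  obtain ⟨i, u, hu⟩ := hts (Points.map ν x)
  obtain ⟨u, rfl⟩ := (Points.schemeHomeo (T i)).surjective u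
  obtain ⟨w, hw, -⟩ := points_exists_of_isPullback (D i).sqN x (Points.schemeHomeo (T i) u) hu.symm
  exact ⟨i, w, hw⟩

theorem LocNorm.isReducedSp (h : LocNorm f ν f') (hY : IsReducedSp Y) : IsReducedSp X' := by
  obtain ⟨ι, N, A, q, b, l, hq, hqs, hb, -, hA⟩ := h.charts
  obtain ⟨Z, ζ, p, hpe, hps, -, hζ, hζs, -⟩ := exists_sigma_chart N q hq hqs
  refine ⟨Z, p, hpe, hps, ?_⟩
  have hN : ∀ i, IsReduced (N i).left := fun i => by
    obtain ⟨hN, hA, hinj⟩ := hA i
    haveI : IsReduced (A i).left := isReduced_of_chart hY (hb i)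
    haveI : _root_.IsReduced Γ((N i).left, ⊤) := isReduced_of_injective (l i).left.appTop.hom hinj
    exact isReduced_of_isAffine_isReduced _
  exact @IsReduced.of_openCover _
    (Scheme.Cover.mkOfCovers ι (fun i => (N i).left) (fun i => (ζ i).left) hζs fun i => hζ i) hN

theorem LocNorm.exists_codimZero_preimage (h : LocNorm f ν f') (hX' : IsAlgSpace X') (x : Points X')
    (hx : HasAt (fun U u => ringKrullDim ↥(U.presheaf.stalk u) = 0) X' x) :
    ∃ y : Points Y, HasAt (fun U u => ringKrullDim ↥(U.presheaf.stalk u) = 0) Y y ∧ Points.map f' y = x := by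
  obtain ⟨ι, N, A, q, b, l, hq, hqs, hb, hcomm, hA⟩ := h.charts
  obtain ⟨i, n, hn⟩ := hqs x
  obtain ⟨n, rfl⟩ := (Points.schemeHomeo (N i)).surjective n
  obtain ⟨hNa, hAa, hinj⟩ := hA i
  haveI := hNa
  haveI := hAa
  have hn' : Points.ofPt (q i) n = x := by rw [← hn]; exact congrFun (ofPt_comp_eq_map (q i)) _
  have hd := (hasAt_ringKrullDim_iff hX' x 0).1 hx _ (q i) n (hq i) hn'
  obtain ⟨a, ha⟩ := exists_preimage_of_injective (l i).left hinj n fun m hm =>
    eq_of_ringKrullDim_stalk_eq_zero hd hm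
  obtain ⟨η, hη, hηd⟩ := exists_codimZero_generization a
  refine ⟨Points.ofPt (b i) η, ⟨_, b i, η, hb i, rfl, hηd⟩, ?_⟩
  rw [Points.map_ofPt, hcomm i, ofPt_yon_map_comp, ← hn']
  refine congrArg _ (eq_of_ringKrullDim_stalk_eq_zero hd ?_)
  rw [← ha]
  exact hη.map (l i).left.continuous

end Groth.Agent.RelNorm
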