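import Groth.Agent.RelNorm.Piece
import Groth.Agent.ASp.SplitQf
import Groth.Agent.ASp.MorCancel

/-!
Zariski's main theorem for the normalization of an algebraic space in a separated morphism of finite type.
-/

set_option backward.isDefEq.respectTransparency false
set_option backward.isDefEq.respectTransparency.types false

universe u

open CategoryTheory CategoryTheory.Limits AlgebraicGeometry Opposite

namespace Groth.Agent.RelNorm

open _root_.AlgSp Groth.Agent.ASp

variable {S : Scheme.{u}}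

/-- The local piece at a quasi-finite point. -/
theorem exists_piece {X Y Y' : Space S} {f : X ⟶ Y} {ν : Y' ⟶ Y} {f' : X ⟶ Y'}
    (hf1 : LocP @LocallyOfFiniteType f.hom) (hf2 : IsSeparatedMor f.hom) (h : LocNorm f.hom ν.hom f'.hom)
    (x : Points X.obj) (hx : IsQfNbhd f.hom x) :
    ∃ (O V : Over S) (q : (yon S).obj O ⟶ Y'.obj) (b : (yon S).obj V ⟶ X.obj) (k : V ⟶ O),
      RepWith @Etale q ∧ IsIso k ∧ IsPullback b ((yon S).map k) f'.hom q ∧ x ∈ Set.range (Points.map b) ∧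
      ∀ v, IsQfNbhd f.hom (Points.ofPt b v) := by
  obtain ⟨U, a, u, ha, hu, hsplit⟩ := exists_split_qf f x hf1 hf2 hx
  obtain ⟨P, prX, prU, hP⟩ : ∃ (P : Space S) (prX : P ⟶ X) (prU : P ⟶ U),
      IsPullback prX.hom prU.hom f.hom a.hom :=
    ⟨⟨pullback f.hom a.hom, isAlgSpace_pullback Y.2.diag X.2 U.2 _ _⟩, ObjectProperty.homMk (pullback.fst _ _),
      ObjectProperty.homMk (pullback.snd _ _), IsPullback.of_hasPullback _ _⟩
  obtain ⟨V, jV, hjo, hjc, hfin, v, hv1, hv2⟩ := hsplit P prX prU hP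
  -- an affine chart through `u`
  obtain ⟨ι, T, c, hTa, hce, hcs⟩ := exists_affine_family U.2
  obtain ⟨i, t₀, ht₀⟩ := hcs u
  let t : (yon S).obj (T i) ⟶ Y.obj := c i ≫ a.hom
  have hte : RepWith @Etale t := ha (c i) (hce i)
  haveI := hTa i
  obtain ⟨V₀, w, fstV, sqV, -, hwf⟩ := hfin (Z := T i) (hTa i) (c i)
  have hνr := ((isIntegralMor_iff Y'.2 Y.2).1 h.2.1).1
  obtain ⟨D⟩ := exists_data hνr h.1 t
  have hWa : IsAlgSpace D.W := isAlgSpace_of_isPullback Y.2.diag X.2 (IsAlgSpace.yon_obj _) D.sqW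
  obtain ⟨g, hg1, hg2⟩ : ∃ g : D.W ⟶ P.obj, g ≫ prX.hom = D.gW ∧ g ≫ prU.hom = D.fW ≫ c i :=
    ⟨hP.lift D.gW (D.fW ≫ c i) (by rw [D.sqW.w, Category.assoc]), hP.lift_fst _ _ _, hP.lift_snd _ _ _⟩
  have sqg : IsPullback g D.fW prU.hom (c i) := by
    refine IsPullback.of_right ?_ hg2 hP
    rw [hg1]; exact D.sqW
  have hjVU : (jV ≫ prU).hom = jV.hom ≫ prU.hom := rfl
  rw [hjVU] at sqV
  obtain ⟨j, hj1, hj2⟩ : ∃ j : (yon S).obj V₀ ⟶ D.W, j ≫ g = fstV ≫ jV.hom ∧ j ≫ D.fW = (yon S).map w :=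
    ⟨sqg.lift (fstV ≫ jV.hom) ((yon S).map w) (by rw [Category.assoc]; exact sqV.w),
      sqg.lift_fst _ _ _, sqg.lift_snd _ _ _⟩
  have sqj : IsPullback fstV j jV.hom g := by
    refine IsPullback.of_bot ?_ hj1.symm sqg
    rw [hj2]; exact sqV
  have hjo' : RepWith @IsOpenImmersion j := repWith_of_isPullback sqj hjo
  have hjc' : RepWith @IsClosedImmersion j := repWith_of_isPullback sqj hjc
  have hsm : LocP @Smooth t :=
    locP_of_repWith (repWith_mono (fun _ _ g (hg : Etale g) => (inferInstance : Smooth g)) hte)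
  have hL := h.baseChange Y.2 Y'.2 (IsAlgSpace.yon_obj _) (IsAlgSpace.yon_obj _) hsm D.sqW D.sqN D.fac D.comm
  obtain ⟨O, o, k, hoi, hk, hsqO⟩ := exists_open_of_finite_piece hWa
    (hL.isRelNormalization (IsAlgSpace.yon_obj _) (IsAlgSpace.yon_obj _)) j hjo' hjc' hj2 hwf
  haveI := hoi
  have sqW' : IsPullback D.gW D.fW' f'.hom D.gN := by
    refine IsPullback.of_bot ?_ D.comm.symm D.sqN
    rw [D.fac]
    have hh : f'.hom ≫ ν.hom = f.hom := h.1
    rw [hh]; exact D.sqW
  have hbe : RepWith @Etale (j ≫ D.gW) :=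
    repWith_comp (repWith_mono (fun _ _ g (hg : IsOpenImmersion g) => inferInstanceAs (Etale g)) hjo')
      (repWith_of_isPullback D.sqW.flip hte)
  refine ⟨O, V₀, (yon S).map o ≫ D.gN, j ≫ D.gW, k,
    repWith_comp (repWith_yon_map (show Etale o.left from inferInstance)) (repWith_of_isPullback D.sqN.flip hte),
    hk, hsqO.paste_horiz sqW', ?_, fun z => ?_⟩
  · obtain ⟨v₀, hv₀, -⟩ := points_exists_of_isPullback sqV v t₀ (by
      rw [ht₀]; exact hv2)
    refine ⟨v₀, ?_⟩
    rw [← hg1, reassoc_of% hj1, Points.map_comp, hv₀]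
    exact hv1
  · haveI := hwf
    exact (isQfNbhd_iff_of_chart hf1 hbe hte (by rw [Category.assoc, D.sqW.w, reassoc_of% hj2]) z).2
      (w.left.quasiFiniteAt z)

theorem exists_iso_over_qf_locus {X Y Y' : Space S} {f : X ⟶ Y} {ν : Y' ⟶ Y} {f' : X ⟶ Y'}
    (hf1 : LocP @LocallyOfFiniteType f.hom) (hf2 : IsSeparatedMor f.hom) (h : LocNorm f.hom ν.hom f'.hom) :
    ∃ (U' : Space S) (j : U' ⟶ Y'), RepWith @IsOpenImmersion j.hom ∧
      ∀ (P : Space S) (fst : P ⟶ X) (snd : P ⟶ U'), IsPullback fst.hom snd.hom f'.hom j.hom →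
        IsIso snd.hom ∧ Set.range (Points.map fst.hom) = {x | IsQfNbhd f.hom x} := by
  obtain ⟨U₀, p₀, -, hp₀s⟩ := X.2.atlas
  choose O V q b k hq hk sq hmem hqf using fun x : {u : ↥U₀.left // IsQfNbhd f.hom (Points.ofPt p₀ u)} =>
    exists_piece hf1 hf2 h (Points.ofPt p₀ x.1) x.2
  let Ω : Set (Points Y'.obj) := ⋃ x, Set.range (Points.map (q x))
  have hΩ : IsOpen Ω := isOpen_iUnion fun x => (isOpenMap_map_of_repWith (P := @Etale)
    (fun g hg => haveI : Etale g := hg; g.isOpenMap) (hq x)).isOpen_range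
  have hUa := isAlgSpace_subSp Y'.2 hΩ
  refine ⟨⟨subSp Y'.obj Ω, hUa⟩, ObjectProperty.homMk (subι Y'.obj Ω), repWith_subι _ _ hΩ, ?_⟩
  intro P fst snd hP
  replace hP : IsPullback fst.hom snd.hom f'.hom (subι Y'.obj Ω) := hP
  haveI : Mono (subι Y'.obj Ω) := mono_of_repWith (P := @IsOpenImmersion)
    (fun g hg => haveI : IsOpenImmersion g := hg; inferInstance) (repWith_subι _ _ hΩ)
  choose c hc using fun x => exists_fac_subι (q x) (W := Ω) (Set.subset_iUnion (fun x => Set.range (Points.map (q x))) x)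
  have hce : ∀ x, RepWith @Etale (c x) := fun x => by
    have s1 : IsPullback (c x) (𝟙 ((yon S).obj (O x))) (𝟙 _) (c x) := IsPullback.of_vert_isIso ⟨by simp⟩
    have s2 := s1.paste_horiz (IsKernelPair.id_of_mono (subι Y'.obj Ω))
    rw [Category.comp_id, hc x] at s2
    exact repWith_of_isPullback s2.flip (hq x)
  refine ⟨?_, Set.ext fun z => ⟨?_, fun hz => ?_⟩⟩
  · choose l hl1 hl2 using fun x => (⟨hP.lift (b x) ((yon S).map (k x) ≫ c x)
      (by rw [(sq x).w, Category.assoc, hc x]), hP.lift_fst _ _ _, hP.lift_snd _ _ _⟩ :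
      ∃ l : (yon S).obj (V x) ⟶ P.obj, l ≫ fst.hom = b x ∧ l ≫ snd.hom = (yon S).map (k x) ≫ c x)
    refine isIso_of_fpqc (f := snd.hom) (p := fun x => (yon S).map (k x)) (q := l) (g := c) P.2 hUa
      (fun x => IsAlgSpace.yon_obj _) (fun x => IsAlgSpace.yon_obj _) (fun x => ?_) ?_
      (fun x => haveI := hk x; inferInstance)
    · refine IsPullback.of_right ?_ (hl2 x) hP
      rw [hl1, hc]
      exact sq x
    · refine isFpqcCover_of_fppf hUa (fun x => IsAlgSpace.yon_obj _)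
        (fun x => locP_of_repWith (repWith_mono (fun _ _ g (hg : Etale g) => (inferInstance : Flat g)) (hce x)))
        (fun x => locP_of_repWith (repWith_mono
          (fun _ _ g (hg : Etale g) => (inferInstance : LocallyOfFinitePresentation g)) (hce x))) fun y => ?_
      have hy : Points.map (subι Y'.obj Ω) y ∈ Ω := (range_map_subι _ _).le ⟨y, rfl⟩
      obtain ⟨x, o, ho⟩ := Set.mem_iUnion.1 hy
      refine ⟨x, o, injective_map_of_repWith (P := @IsOpenImmersion)
        (fun g hg => haveI : IsOpenImmersion g := hg; g.isOpenEmbedding.injective) (repWith_subι _ _ hΩ) ?_⟩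
      rw [← Points.map_comp, hc, ho]
  · rintro ⟨p, rfl⟩
    have hy : Points.map f'.hom (Points.map fst.hom p) ∈ Ω := by
      rw [← Points.map_comp, hP.w, Points.map_comp]
      exact (range_map_subι _ _).le ⟨_, rfl⟩
    obtain ⟨x, o, ho⟩ := Set.mem_iUnion.1 hy
    obtain ⟨w, hw, -⟩ := points_exists_of_isPullback (sq x) (Points.map fst.hom p) o ho.symm
    obtain ⟨w, rfl⟩ := (Points.schemeHomeo (V x)).surjective w
    have e : Points.ofPt (b x) w = Points.map (b x) (Points.schemeHomeo (V x) w) := congrFun (ofPt_comp_eq_map (b x)) w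
    rw [← e] at hw
    change IsQfNbhd f.hom _
    rw [← hw]
    exact hqf x w
  · obtain ⟨z, rfl⟩ := surjective_ofPt hp₀s z
    obtain ⟨w, hw⟩ := hmem ⟨z, hz⟩
    have hy : Points.map f'.hom (Points.ofPt p₀ z) ∈ Ω := by
      refine Set.mem_iUnion.2 ⟨⟨z, hz⟩, Points.map ((yon S).map (k ⟨z, hz⟩)) w, ?_⟩
      rw [← Points.map_comp, ← (sq ⟨z, hz⟩).w, Points.map_comp, hw]
    obtain ⟨y, hy'⟩ := (range_map_subι _ _).ge hy
    obtain ⟨p, hp, -⟩ := points_exists_of_isPullback hP (Points.ofPt p₀ z) y hy'.symm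
    exact ⟨p, hp⟩

end Groth.Agent.RelNorm

namespace Groth.Agent.RelNorm

open _root_.AlgSp Groth.Agent.ASp

variable {S : Scheme.{u}}

theorem locNorm_of_separated {Y X X' : Space S} {f : Y ⟶ X} {ν : X' ⟶ X} {f' : Y ⟶ X'}
    (hqc : IsQuasiCompactMor f.hom) (hsep : IsSeparatedMor f.hom) (hn : IsRelNormalization f.hom ν.hom f'.hom) :
    LocNorm f.hom ν.hom f'.hom :=
  locNorm_of_isRelNormalization Y.2 X.2 X'.2 hqc
    (repWith_mono (fun _ _ g (hg : IsClosedImmersion g) => (inferInstance : QuasiCompact g)) hsep) hn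

/-- Zariski's main theorem: a separated quasi-finite morphism is an open immersion into the normalization. -/
theorem openImmersion_of_qf {X Y Y' : Space S} {f : X ⟶ Y} {ν : Y' ⟶ Y} {f' : X ⟶ Y'}
    (hqf : LocP (@LocallyQuasiFinite ⊓ @LocallyOfFiniteType) f.hom) (hqc : IsQuasiCompactMor f.hom)
    (hsep : IsSeparatedMor f.hom) (h : LocNorm f.hom ν.hom f'.hom) :
    RepWith @IsOpenImmersion f'.hom ∧ IsQuasiCompactMor f'.hom ∧ IsQuasiAffineMor f.hom := by
  have hlft : LocP @LocallyOfFiniteType f.hom := fun U V a b k ha hb e => (hqf a b k ha hb e).2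
  obtain ⟨U', j, hj, hP⟩ := exists_iso_over_qf_locus hlft hsep h
  let P : Space S := ⟨pullback f'.hom j.hom, isAlgSpace_pullback Y'.2.diag X.2 U'.2 _ _⟩
  obtain ⟨hiso, hrange⟩ := hP P (ObjectProperty.homMk (pullback.fst _ _)) (ObjectProperty.homMk (pullback.snd _ _))
    (IsPullback.of_hasPullback _ _)
  have hsur : Function.Surjective (Points.map (pullback.fst f'.hom j.hom)) := fun x => by
    have hx : x ∈ {x | IsQfNbhd f.hom x} := by
      obtain ⟨U, V, a, b, k, ha, has, hb, -, e⟩ := Groth.Agent.Inf.exists_chart (f := f.hom) X.2 Y.2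
      obtain ⟨u, rfl⟩ := surjective_ofPt has x
      haveI := (hqf a b k ha hb e).1
      exact (isQfNbhd_iff_of_chart hlft ha hb e u).2 (k.left.quasiFiniteAt u)
    exact hrange.ge hx
  have hfo : RepWith @IsOpenImmersion (pullback.fst f'.hom j.hom) :=
    repWith_of_isPullback (IsPullback.of_hasPullback _ _).flip hj
  haveI : IsIso (pullback.fst f'.hom j.hom) := by
    haveI : Mono (pullback.fst f'.hom j.hom) := mono_of_repWith (P := @IsOpenImmersion)
      (fun g hg => haveI : IsOpenImmersion g := hg; inferInstance) hfo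
    exact isIso_of_mono_etale_surjective P.2 X.2 _ (locP_of_repWith
      (repWith_mono (fun _ _ g (hg : IsOpenImmersion g) => inferInstanceAs (Etale g)) hfo)) hsur
  haveI : IsIso (pullback.snd f'.hom j.hom) := hiso
  have hf'o : RepWith @IsOpenImmersion f'.hom := by
    have e : f'.hom = (inv (pullback.fst f'.hom j.hom) ≫ pullback.snd f'.hom j.hom) ≫ j.hom := by
      rw [Category.assoc, ← pullback.condition, IsIso.inv_hom_id_assoc]
    rw [e]
    exact repWith_comp (repWith_of_isIso _) hj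
  have hνrep := (isIntegralMor_iff Y'.2 Y.2).1 h.2.1
  have hνsep : IsSeparatedMor ν.hom :=
    (isSeparatedMor_iff hνrep.1).2 (repWith_mono (fun _ _ k (hk : IsIntegralHom k) => (inferInstance : IsSeparated k)) hνrep)
  have hf'q : IsQuasiCompactMor f'.hom :=
    quasiCompact_of_comp_separated X.2 Y'.2 Y.2 f'.hom ν.hom hνsep (by
      have e : f'.hom ≫ ν.hom = f.hom := h.1
      rw [e]; exact hqc)
  refine ⟨hf'o, hf'q, fun Z hZ g => ?_⟩
  obtain ⟨N, νN, gN, sqN, hN, -⟩ := h.2.1 hZ g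
  haveI := hN
  obtain ⟨W, w, gW, sqW⟩ : ∃ (W : Over S) (w : W ⟶ N) (gW : (yon S).obj W ⟶ X.obj),
      IsPullback gW ((yon S).map w) f'.hom gN := ⟨_, _, _, hf'o.1.isPullback gN⟩
  haveI : IsOpenImmersion w.left := hf'o.2 _ _ _ sqW
  haveI : CompactSpace ↥W.left := by
    haveI := compactSpace_of_isQuasiCompactSp (hf'q (IsAlgSpace.yon_obj N) isQuasiCompactSp_yon gN gW _ sqW)
    exact (Points.schemeHomeo W).symm.compactSpace
  haveI : W.left.IsQuasiAffine := Scheme.IsQuasiAffine.of_isImmersion (f := w.left)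
  refine ⟨W, w ≫ νN, gW, ?_, inferInstance⟩
  rw [Functor.map_comp]
  have := sqW.paste_vert sqN
  have e : f'.hom ≫ ν.hom = f.hom := h.1
  rwa [e] at this

end Groth.Agent.RelNorm
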